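/-
The maps of a normal subsystem extend to a strongly closed subgroup commuting with it so as to
fix that subgroup pointwise.
-/
import Cfsg.Agent.FusionLayer.ExtensionCondition
import Cfsg.Agent.FusionLayer.Lift.Basic
import Cfsg.Agent.FusionAgemo.Induction
import Cfsg.Agent.Transfer.Residual

set_option autoImplicit false

namespace CfsgLib.FusionLayer.Product

open Cfsg Cfsg.FusionSystem CfsgLib.Fusion

variable {Ω : Type*} [Group Ω] {S T R : Subgroup Ω} {F : FusionSystem S} {E : FusionSystem T}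
  {p : ℕ}

/-- A homomorphism fixing `R` has image of `P ⊔ R` inside `V ⊔ R`. -/
theorem apply_mem_sup {P V : Subgroup Ω} {φ : P →* Ω} {χ : ↥(P ⊔ R) →* Ω}
    (h1 : ∀ x : P, χ (Subgroup.inclusion le_sup_left x) = φ x) (h2 : ∀ x : P, φ x ∈ V)
    (h3 : ∀ r : R, χ (Subgroup.inclusion le_sup_right r) = r) (x : ↥(P ⊔ R)) :
    χ x ∈ V ⊔ R := by
  refine forall_mem_sup χ le_sup_left le_sup_right (fun a ha => ?_) (fun a ha => ?_) x.2 x.2
  · exact Subgroup.mem_sup_left ((h1 ⟨a, ha⟩).symm ▸ h2 ⟨a, ha⟩)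
  · exact Subgroup.mem_sup_right ((h3 ⟨a, ha⟩).symm ▸ ha)

/-- The maps of `E` with an extension in `F` fixing `R` pointwise. -/
def fixExtSystem (F : FusionSystem S) (E : FusionSystem T) (hTS : T ≤ S) (hRS : R ≤ S)
    (hc : ∀ t ∈ T, ∀ r ∈ R, t * r = r * t) : FusionSystem T where
  Hom P := {φ | φ ∈ E.Hom P ∧ ∃ χ ∈ F.Hom (P ⊔ R),
    (∀ x : P, χ (Subgroup.inclusion le_sup_left x) = φ x) ∧
      ∀ r : R, χ (Subgroup.inclusion le_sup_right r) = r}
  le_of_mem h := E.le_of_mem h.1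
  injective_of_mem h := E.injective_of_mem h.1
  conj_mem := fun {P g} hP hg => ⟨E.conj_mem hP hg, conjHom _ g,
    F.conj_mem (sup_le (hP.trans hTS) hRS) (hTS hg), fun x => rfl, fun r => by
      show g * (r : Ω) * g⁻¹ = r
      rw [hc g hg r r.2, mul_inv_cancel_right]⟩
  comp_mem := by
    rintro P Q φ ψ ⟨hφ, χ, hχ, hχ1, hχ2⟩ ⟨hψ, ω, hω, hω1, hω2⟩ h
    refine ⟨E.comp_mem hφ hψ h, _, F.comp_mem hχ hω (apply_mem_sup hχ1 h hχ2),
      fun x => ?_, fun r => ?_⟩
    · show ω ⟨χ (Subgroup.inclusion le_sup_left x), _⟩ = ψ ⟨φ x, h x⟩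
      rw [← hω1 ⟨φ x, h x⟩]
      exact congrArg ω (Subtype.ext (hχ1 x))
    · show ω ⟨χ (Subgroup.inclusion le_sup_right r), _⟩ = (r : Ω)
      refine Eq.trans (congrArg ω (Subtype.ext (hχ2 r) : _ = Subgroup.inclusion le_sup_right r)) ?_
      exact hω2 r
  inv_mem := by
    rintro P φ ⟨hφ, χ, hχ, hχ1, hχ2⟩
    obtain ⟨ψ, hψ, hψv⟩ := E.inv_mem hφ
    obtain ⟨ω, hω, hωv⟩ := F.inv_mem hχ
    have hle : φ.range ⊔ R ≤ χ.range := by
      refine sup_le ?_ fun r hr => ⟨_, hχ2 ⟨r, hr⟩⟩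
      rintro _ ⟨x, rfl⟩
      exact ⟨_, hχ1 x⟩
    refine ⟨ψ, ⟨hψ, restrictHom ω hle, restrict_mem hω hle, ?_, fun r => ?_⟩, hψv⟩
    · rintro ⟨_, x, rfl⟩
      rw [hψv, restrictHom_apply]
      exact Eq.trans (congrArg ω (Subtype.ext (hχ1 x).symm :
        _ = (⟨χ (Subgroup.inclusion le_sup_left x), _, rfl⟩ : χ.range))) (hωv _)
    · rw [restrictHom_apply]
      exact Eq.trans (congrArg ω (Subtype.ext (hχ2 r).symm :
        _ = (⟨χ (Subgroup.inclusion le_sup_right r), _, rfl⟩ : χ.range))) (hωv _)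

/-- A power of order prime to `p` of the extension of an automorphism of a centric subgroup fixes
a commuting strongly closed subgroup. -/
theorem exists_fix_pow [Finite S] [Fact p.Prime] (hS : IsPGroup p S)
    (hn : E.IsNormalIn F p) (hR : F.StronglyClosed R) (hc : ∀ t ∈ T, ∀ r ∈ R, t * r = r * t)
    (hZ : T ⊓ R ≤ E.center) {P : Subgroup Ω} (hP : E.IsCentric P) {α : MulAut P}
    (hα : α ∈ E.autGroup P) (hcop : (orderOf α).Coprime p) :
    ∃ χ ∈ F.Hom (P ⊔ R), (∀ x : P, χ (Subgroup.inclusion le_sup_left x) = (α x : Ω)) ∧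
      ∀ r : R, χ (Subgroup.inclusion le_sup_right r) = r := by
  obtain ⟨β, hβ, hβ1, hβ2⟩ := trivialExt_of_normal hS hn hP hα
  have hTS := hn.1.2.2.2.1.1
  have := finite_of_le hTS
  have hPS := hP.1.trans hTS
  have := finite_of_le hPS
  have hWS : P ⊔ centralizerIn S P ≤ S := sup_le hPS (centralizerIn_le S P)
  have := finite_of_le hWS
  have hRC : R ≤ centralizerIn S P := fun r hr =>
    mem_centralizerIn.2 ⟨hR.1 hr, fun x hx => hc x (hP.1 hx) r hr⟩
  obtain ⟨i, hi⟩ := (hS.to_le hPS).exists_card_eq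
  obtain ⟨m, hm⟩ := exists_pow_eq_self_of_coprime (n := p ^ i) (x := α) (hcop.pow_right i).symm
  have hαk : α ^ (p ^ i * m) = α := by rw [pow_mul]; exact hm
  have hrest : ∀ x : P, ((β ^ (p ^ i * m)) (Subgroup.inclusion le_sup_left x) : Ω) = (α x : Ω) :=
    fun x => by
      rw [← pow_agree (b := α) (a := β) le_sup_left (fun y => (hβ1 y).symm) (p ^ i * m) x, hαk]
  have hfix : ∀ r : R, (β ^ (p ^ i * m))
      (Subgroup.inclusion (le_sup_of_le_right hRC : R ≤ P ⊔ centralizerIn S P) r) =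
      Subgroup.inclusion (le_sup_of_le_right hRC : R ≤ P ⊔ centralizerIn S P) r := by
    intro r
    set w := Subgroup.inclusion (le_sup_of_le_right hRC : R ≤ P ⊔ centralizerIn S P) r with hw
    have hd := hβ2 w (hRC r.2)
    have hβr : ((β w : ↥(P ⊔ centralizerIn S P)) : Ω) ∈ R :=
      (stronglyClosed_aut_iff hR hβ).2 r.2
    let d : P := ⟨_, hd.1⟩
    have hdZ : (d : Ω) ∈ E.center := hZ ⟨hP.1 d.2, mul_mem (Subgroup.inv_mem _ r.2) hβr⟩
    have hαd : (α d : Ω) = d :=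
      apply_eq_of_central (FusionFactor.isCentral_center E) ((mem_autGroup_iff hP.1).1 hα) hdZ
    let d' : ↥(P ⊔ centralizerIn S P) := Subgroup.inclusion le_sup_left d
    have hβd : β d' = d' := Subtype.ext ((hβ1 d).trans hαd)
    have hβw : β w = w * d' := Subtype.ext (mul_inv_cancel_left (w : Ω) _).symm
    have hpow : ∀ n : ℕ, (β ^ n) w = w * d' ^ n := by
      intro n
      induction n with
      | zero => simp
      | succ n ih =>
        rw [pow_succ', MulAut.mul_apply, ih, map_mul, map_pow, hβd, hβw, mul_assoc, ← pow_succ']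
    rw [hpow, show d' ^ (p ^ i * m) = 1 from ?_, mul_one]
    have h1 : d ^ Nat.card P = 1 := pow_card_eq_one'
    rw [hi] at h1
    rw [← map_pow, pow_mul, h1, one_pow, map_one]
  refine ⟨restrictHom _ (sup_le_sup_left hRC P),
    restrict_mem ((mem_autGroup_iff hWS).1 (pow_mem hβ _)) _, fun x => hrest x, fun r => ?_⟩
  exact congrArg Subtype.val (hfix r)

/-- The maps of a normal subsystem extend to a commuting strongly closed subgroup, fixing it. -/
theorem exists_ext_fix [Finite S] [Fact p.Prime] (hS : IsPGroup p S)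
    (hn : E.IsNormalIn F p) (hR : F.StronglyClosed R) (hc : ∀ t ∈ T, ∀ r ∈ R, t * r = r * t)
    (hZ : T ⊓ R ≤ E.center) {P : Subgroup Ω} {φ : P →* Ω} (hφ : φ ∈ E.Hom P) :
    ∃ χ ∈ F.Hom (P ⊔ R), (∀ x : P, χ (Subgroup.inclusion le_sup_left x) = φ x) ∧
      ∀ r : R, χ (Subgroup.inclusion le_sup_right r) = r := by
  have hTS := hn.1.2.2.2.1.1
  have hTp : IsPGroup p T := hS.to_le hTS
  have := finite_of_le hTS
  suffices h : E.IsSubsystemOf (fixExtSystem F E hTS hR.1 hc) from (h P hφ).2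
  refine FusionAgemo.isSubsystemOf_of_aut hTp hn.1.1 fun P hP habove α hα => ?_
  have hPT := hP.1
  have := finite_of_le hPT
  obtain ⟨hPa, hPr⟩ := automized_receptive hTp hn.1.1 hP
  by_cases hC : centralizerIn T P ≤ P
  swap
  · have hI := (mem_autGroup_iff hPT).1 hα
    obtain ⟨ψ, hψ, hv⟩ := exists_extension (T := P ⊔ centralizerIn T P) hPr hI
      (sup_le (le_extender hPT (E.le_of_mem hI).2) (centralizerIn_le_extender _))
    have := finite_of_le (sup_le hPT (centralizerIn_le T P))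
    have hlt : Nat.card P < Nat.card ↥(P ⊔ centralizerIn T P) :=
      card_lt_of_lt (left_lt_sup.2 hC) (sup_le hPT (centralizerIn_le T P))
    exact mem_of_agree (habove _ hlt ψ hψ) le_sup_left fun x => (hv x _).symm
  have hPc : E.IsCentric P :=
    isCentric_of_fullyCentralized hTp hn.1.1 (fullyCentralized_of_normalized hTp hn.1.1 hP) hC
  obtain ⟨R₀, hR₀⟩ := hPa.2
  have hsub : (⊤ : Subgroup (E.autGroup P)) ≤
      ((fixExtSystem F E hTS hR.1 hc).autGroup P).subgroupOf (E.autGroup P) := by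
    rw [← Transfer.sylow_sup_pResidual R₀, sup_le_iff]
    refine ⟨fun g hg => ?_, (Subgroup.closure_le _).2 fun g hg => ?_⟩
    · rw [hR₀] at hg
      exact autInducedBy_le_autGroup hPT hg
    · obtain ⟨χ, hχ, h1, h2⟩ := exists_fix_pow hS hn hR hc hZ hPc g.2
        (by rw [Subgroup.orderOf_coe]; exact hg)
      exact IsIso.mem_autGroup ⟨(mem_autGroup_iff hPT).1 g.2, χ, hχ, h1, h2⟩
  exact (mem_autGroup_iff hPT).1 (hsub (Subgroup.mem_top ⟨α, hα⟩))

end CfsgLib.FusionLayer.Product
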