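/-
The two Frattini steps for a pair of commuting strongly closed subgroups.
-/
import Cfsg.Agent.Fusion.CentralizerSubsystem
import Cfsg.Agent.FusionAgemo.Induction
import Cfsg.Agent.FusionLayer.Util

set_option autoImplicit false
set_option linter.style.haveILetI false

namespace CfsgLib.FusionLayer.Product

open Cfsg Cfsg.FusionSystem CfsgLib.Fusion CfsgLib.FusionAgemo

section abstract

variable {M : Type*} [Group M] (H : Subgroup (MulAut M)) (N : Subgroup M) [N.Normal]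

/-- The automorphisms in `H` inner modulo `N`. -/
def modInner (hN : ∀ a ∈ H, ∀ x ∈ N, a x ∈ N) : Subgroup H where
  carrier := {a | ∃ m : M, ∀ x : M, (m * x * m⁻¹)⁻¹ * (a : MulAut M) x ∈ N}
  one_mem' := ⟨1, fun x => by simp⟩
  mul_mem' := by
    rintro a b ⟨m, hm⟩ ⟨n, hn⟩
    refine ⟨m * n, fun x => ?_⟩
    have h := mul_mem (hm (n * x * n⁻¹)) (hN a a.2 _ (hn x))
    rw [mul_assoc, ← map_mul, mul_inv_cancel_left] at h
    simpa [mul_assoc] using h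
  inv_mem' := by
    rintro a ⟨m, hm⟩
    refine ⟨m⁻¹, fun x => ?_⟩
    have h := hm ((a : MulAut M)⁻¹ x)
    rw [MulAut.apply_inv_self] at h
    have h' := Subgroup.Normal.conj_mem inferInstance _ (Subgroup.inv_mem _ h) m⁻¹
    simpa [mul_assoc] using h'

theorem modInner_normal (hN : ∀ a ∈ H, ∀ x ∈ N, a x ∈ N) : (modInner H N hN).Normal := by
  refine ⟨fun a ⟨m, hm⟩ g => ⟨(g : MulAut M) m, fun x => ?_⟩⟩
  have h := hN g g.2 _ (hm ((g : MulAut M)⁻¹ x))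
  simpa using h

theorem modInner_pow (hN : ∀ a ∈ H, ∀ x ∈ N, a x ∈ N) {a : H} (ha : a ∈ modInner H N hN)
    {n : ℕ} (hn : ∀ m : M, m ^ n = 1) (x : M) : x⁻¹ * ((a ^ n : H) : MulAut M) x ∈ N := by
  obtain ⟨m, hm⟩ := ha
  have h : ∀ k : ℕ, ∀ x : M, (m ^ k * x * (m ^ k)⁻¹)⁻¹ * ((a ^ k : H) : MulAut M) x ∈ N := by
    intro k
    induction k with
    | zero => intro x; simp
    | succ k ih =>
      intro x
      have h1 := mul_mem (hm (m ^ k * x * (m ^ k)⁻¹)) (hN a a.2 _ (ih x))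
      rw [mul_assoc, ← map_mul, mul_inv_cancel_left] at h1
      rw [pow_succ' m, pow_succ' a, Subgroup.coe_mul, MulAut.mul_apply]
      simpa [mul_assoc] using h1
  simpa [hn m] using h n x

/-- The automorphisms in `H` fixing `Z` pointwise. -/
def fixer (Z : Subgroup M) : Subgroup H where
  carrier := {a | ∀ x ∈ Z, (a : MulAut M) x = x}
  one_mem' x _ := rfl
  mul_mem' := by
    intro a b ha hb x hx
    show (a : MulAut M) ((b : MulAut M) x) = x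
    rw [hb x hx, ha x hx]
  inv_mem' := by
    intro a ha x hx
    show (a : MulAut M)⁻¹ x = x
    conv_lhs => rw [← ha x hx]
    exact MulAut.inv_apply_self ..

theorem fixer_normal {Z : Subgroup M} (hZ : ∀ a ∈ H, ∀ x ∈ Z, a x ∈ Z) : (fixer H Z).Normal := by
  refine ⟨fun a ha g x hx => ?_⟩
  show (g : MulAut M) ((a : MulAut M) ((g : MulAut M)⁻¹ x)) = x
  rw [ha _ (hZ _ (Subgroup.inv_mem _ g.2) x hx)]
  exact MulAut.apply_inv_self ..

end abstract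

variable {Ω : Type*} [Group Ω] {S T₁ T₂ : Subgroup Ω} {F : FusionSystem S}
  {E₁ : FusionSystem T₁} {G : FusionSystem S} {P : Subgroup Ω} {p : ℕ}

/-- The step through a projection not contained in `P`. -/
theorem aut_mem_of_proj [Finite S] [Fact p.Prime] (hS : IsPGroup p S)
    (hPa : F.IsFullyAutomized p P) (hPr : F.IsReceptive P) (habove : MemAbove F G P)
    (hT₁ : F.StronglyClosed T₁) (hT₂ : F.StronglyClosed T₂)
    (hc : ∀ a ∈ T₁, ∀ b ∈ T₂, a * b = b * a) {c : Ω} (hcT : c ∈ T₁) (hcN : c ∈ normalizerIn S P)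
    (hcP : c ∉ P) {t : Ω} (ht : t ∈ T₂) (hct : c * t ∈ P) :
    ∀ α ∈ F.autGroup P, IsIso G α := by
  have hPS := hPa.1
  have := finite_of_le hPS
  have hinv : ∀ {R : Subgroup Ω}, F.StronglyClosed R → ∀ a ∈ F.autGroup P,
      ∀ x ∈ R.subgroupOf P, a x ∈ R.subgroupOf P :=
    fun hR a ha x hx => (stronglyClosed_aut_iff hR ha).2 hx
  have hnorm : ∀ {R : Subgroup Ω}, F.StronglyClosed R → (R.subgroupOf P).Normal :=
    fun hR => ⟨fun x hx g => (stronglyClosed_conj_iff hR (hPS g.2) (hPS x.2)).2 hx⟩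
  haveI := hnorm hT₁
  haveI := hnorm hT₂
  obtain ⟨K, hKdef⟩ : ∃ K, K = fixer (F.autGroup P) ((T₁ ⊓ T₂).subgroupOf P) ⊓
      (modInner (F.autGroup P) (T₂.subgroupOf P) (hinv hT₂) ⊓
        modInner (F.autGroup P) (T₁.subgroupOf P) (hinv hT₁)) := ⟨_, rfl⟩
  have hKn : K.Normal := by
    haveI := fixer_normal (F.autGroup P) (hinv (stronglyClosed_inf hT₁ hT₂))
    haveI := modInner_normal (F.autGroup P) (T₂.subgroupOf P) (hinv hT₂)
    haveI := modInner_normal (F.autGroup P) (T₁.subgroupOf P) (hinv hT₁)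
    rw [hKdef]
    infer_instance
  have hKp : IsPGroup p K := by
    obtain ⟨i, hi⟩ := (hS.to_le hPS).exists_card_eq
    refine isPGroup_iff_pow_pow_eq_one.2 ?_
    rintro ⟨a, ha⟩
    rw [hKdef] at ha
    refine ⟨i + i, Subtype.ext (Subtype.ext ?_)⟩
    show (a : MulAut P) ^ p ^ (i + i) = 1
    rw [pow_add, pow_mul, ← hi]
    have hpow : ∀ m : P, m ^ Nat.card P = 1 := fun _ => pow_card_eq_one'
    have hd : ∀ x : P, x⁻¹ * ((a : MulAut P) ^ Nat.card P) x ∈ (T₁ ⊓ T₂).subgroupOf P := fun x =>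
      ⟨modInner_pow _ _ _ ha.2.2 hpow x, modInner_pow _ _ _ ha.2.1 hpow x⟩
    exact pow_eq_one_of_displacement (fun x => pow_mem ha.1 (Nat.card P) _ (hd x))
      fun x => hpow _
  obtain ⟨cm, hcm⟩ : ∃ cm : F.autGroup P, ∀ x : P, ((cm : MulAut P) x : Ω) = c * x * c⁻¹ :=
    ⟨⟨P.normalizerMonoidHom ⟨c, hcN.2⟩, autInducedBy_le_autGroup hPS
      (mem_autInducedBy_iff.2 ⟨c, hcN.1, hcN.2, fun _ => rfl⟩)⟩, fun _ => rfl⟩
  refine aut_mem_of_normal_pgroup hPa hPr habove K hKn hKp hcN hcP ?_ hcm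
  rw [hKdef]
  refine ⟨fun x hx => Subtype.ext ?_, ⟨⟨c * t, hct⟩, fun x => ?_⟩, ⟨1, fun x => ?_⟩⟩
  · rw [hcm, hc c hcT x hx.2, mul_inv_cancel_right]
  · show (c * t * (x : Ω) * (c * t)⁻¹)⁻¹ * ((cm : MulAut P) x : Ω) ∈ T₂
    have h1 : (x : Ω)⁻¹ * t⁻¹ * x ∈ T₂ := by
      have := (Subgroup.mem_normalizer_iff''.1
        (stronglyClosed_le_normalizer hT₂ (hPS x.2)) t⁻¹).1 (Subgroup.inv_mem _ ht)
      exact this
    rw [hcm, show (c * t * (x : Ω) * (c * t)⁻¹)⁻¹ * (c * x * c⁻¹) =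
      c * (t * ((x : Ω)⁻¹ * t⁻¹ * x)) * c⁻¹ by group, hc c hcT _ (mul_mem ht h1),
      mul_inv_cancel_right]
    exact mul_mem ht h1
  · show ((1 : Ω) * (x : Ω) * (1 : Ω)⁻¹)⁻¹ * ((cm : MulAut P) x : Ω) ∈ T₁
    rw [hcm, one_mul, inv_one, mul_one, ← mul_assoc, ← mul_assoc]
    exact mul_mem ((Subgroup.mem_normalizer_iff''.1
      (stronglyClosed_le_normalizer hT₁ (hPS x.2)) c).1 hcT) (Subgroup.inv_mem _ hcT)

/-- The step through an element of `T₁` normalizing `P`. -/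
theorem aut_mem_of_left [Finite S] [Fact p.Prime] (hS : IsPGroup p S)
    (hPa : F.IsFullyAutomized p P) (hPr : F.IsReceptive P) (habove : MemAbove F G P)
    (hE₁ : E₁.IsInvariantIn F) (hT₂ : F.StronglyClosed T₂)
    (hc : ∀ a ∈ T₁, ∀ b ∈ T₂, a * b = b * a)
    (hKG : ∀ a ∈ F.autGroup P, (∀ y : P, (y : Ω) ∈ T₂ → a y = y) →
      ∀ φ₁ ∈ E₁.Hom (P ⊓ T₁), (∀ y : ↥(P ⊓ T₁), φ₁ y = (a ⟨y, y.2.1⟩ : Ω)) → IsIso G a)
    {c : Ω} (hcT : c ∈ T₁) (hcN : c ∈ normalizerIn S P) (hcP : c ∉ P) :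
    ∀ α ∈ F.autGroup P, IsIso G α := by
  have hT := hE₁.2.1
  have hsi := strongInvariant_of_invariant hE₁
  have hPS := hPa.1
  have := finite_of_le hPS
  have hinv : ∀ a ∈ F.autGroup P, ∀ x ∈ T₂.subgroupOf P, a x ∈ T₂.subgroupOf P :=
    fun a ha x hx => (stronglyClosed_aut_iff hT₂ ha).2 hx
  have hstab : ∀ a : F.autGroup P, ∀ y : ↥(P ⊓ T₁),
      (((a : MulAut P) ⟨y, y.2.1⟩ : P) : Ω) ∈ P ⊓ T₁ := fun a y =>
    ⟨Subtype.mem _, (stronglyClosed_aut_iff hT a.2).2 y.2.2⟩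
  let K₀ : Subgroup (F.autGroup P) :=
    { carrier := {k | ∃ φ₀ ∈ E₁.Hom (P ⊓ T₁), ∀ y : ↥(P ⊓ T₁),
        φ₀ y = (((k : MulAut P) ⟨y, y.2.1⟩ : P) : Ω)}
      one_mem' := ⟨_, subtype_mem inf_le_right, fun y => rfl⟩
      mul_mem' := fun {a b} ⟨f, hf, hfv⟩ ⟨g, hg, hgv⟩ =>
        ⟨_, E₁.comp_mem hg hf (fun y => hgv y ▸ hstab b y), fun y => by
          show f ⟨g y, _⟩ = _
          rw [hfv]
          exact congrArg (fun z : P => (((a : MulAut P) z : P) : Ω)) (Subtype.ext (hgv y))⟩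
      inv_mem' := fun {a} ⟨f, hf, hfv⟩ => by
        obtain ⟨θ, hθ, hθv⟩ := E₁.inv_mem hf
        have hle : P ⊓ T₁ ≤ f.range := fun y hy =>
          ⟨⟨_, hstab a⁻¹ ⟨y, hy⟩⟩, by
            rw [hfv]
            show ((a : MulAut P) ((a : MulAut P)⁻¹ ⟨y, hy.1⟩) : Ω) = y
            rw [MulAut.apply_inv_self]⟩
        refine ⟨restrictHom θ hle, restrict_mem hθ hle, fun y => ?_⟩
        have e : f ⟨_, hstab a⁻¹ y⟩ = y := by
          rw [hfv]
          show ((a : MulAut P) ((a : MulAut P)⁻¹ ⟨y, y.2.1⟩) : Ω) = y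
          rw [MulAut.apply_inv_self]
        have h := hθv ⟨_, hstab a⁻¹ y⟩
        rw [restrictHom_apply]
        exact (congrArg θ (Subtype.ext e.symm)).trans h }
  have hK₀n : K₀.Normal := ⟨fun k ⟨f, hf, hfv⟩ a => by
    obtain ⟨χ, hχ, hχv⟩ := hsi (P ⊓ T₁) (P ⊓ T₁) le_rfl inf_le_right f hf
      (fun y => hfv y ▸ hstab k y)
      (restrictHom (P.subtype.comp ((a : MulAut P) : P ≃* P).toMonoidHom) inf_le_left)
      (restrict_mem ((mem_autGroup_iff hPS).1 a.2) inf_le_left)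
    have hle : P ⊓ T₁ ≤ ((P ⊓ T₁).subgroupOf (P ⊓ T₁)).map
        (restrictHom (P.subtype.comp ((a : MulAut P) : P ≃* P).toMonoidHom) inf_le_left) :=
      fun y hy => ⟨⟨_, hstab a⁻¹ ⟨y, hy⟩⟩, Subtype.mem (⟨_, hstab a⁻¹ ⟨y, hy⟩⟩ : ↥(P ⊓ T₁)), by
        show ((a : MulAut P) ((a : MulAut P)⁻¹ ⟨y, hy.1⟩) : Ω) = y
        rw [MulAut.apply_inv_self]⟩
    refine ⟨restrictHom χ hle, restrict_mem hχ hle, fun y => ?_⟩
    have e : ((a : MulAut P) ((a : MulAut P)⁻¹ ⟨y, y.2.1⟩) : Ω) = y := by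
      rw [MulAut.apply_inv_self]
    have hm2 : ((a : MulAut P) ((a : MulAut P)⁻¹ ⟨y, y.2.1⟩) : Ω) ∈
        ((P ⊓ T₁).subgroupOf (P ⊓ T₁)).map (restrictHom
          (P.subtype.comp ((a : MulAut P) : P ≃* P).toMonoidHom) inf_le_left) :=
      Eq.mpr (congrArg (· ∈ _) e) (hle y.2)
    have h := hχv ⟨(((a : MulAut P)⁻¹ ⟨y, y.2.1⟩ : P) : Ω), hstab a⁻¹ y⟩ hm2
    rw [restrictHom_apply]
    refine Eq.trans (congrArg χ (Subtype.ext e.symm)) (h.trans ?_)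
    show ((a : MulAut P) ⟨f _, _⟩ : Ω) = _
    exact congrArg (fun z : P => (((a : MulAut P) z : P) : Ω)) (Subtype.ext (hfv _))⟩
  haveI := hK₀n
  haveI := fixer_normal (F.autGroup P) hinv
  obtain ⟨cm, hcm⟩ : ∃ cm : F.autGroup P, ∀ x : P, ((cm : MulAut P) x : Ω) = c * x * c⁻¹ :=
    ⟨⟨P.normalizerMonoidHom ⟨c, hcN.2⟩, autInducedBy_le_autGroup hPS
      (mem_autInducedBy_iff.2 ⟨c, hcN.1, hcN.2, fun _ => rfl⟩)⟩, fun _ => rfl⟩
  refine aut_mem_of_normal hS hPa hPr habove (K₀ ⊓ fixer (F.autGroup P) (T₂.subgroupOf P))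
    inferInstance (fun k hk => ?_) hcN hcP (c := cm) ⟨?_, fun x hx => Subtype.ext ?_⟩ hcm
  · obtain ⟨⟨f, hf, hfv⟩, hfix⟩ := hk
    exact hKG _ k.2 (fun y hy => hfix y hy) f hf hfv
  · exact ⟨_, E₁.conj_mem inf_le_right hcT, fun y => (hcm ⟨y, y.2.1⟩).symm⟩
  · rw [hcm, hc c hcT x hx, mul_inv_cancel_right]

end CfsgLib.FusionLayer.Product
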