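/-
The central product of two commuting subsystems whose underlying groups meet in both centres.
-/
import Cfsg.Agent.FusionProduct.Saturated
import Cfsg.Agent.FusionFactor.Construct
import Cfsg.Agent.FusionFactor.ImageSaturated
import Cfsg.Agent.FusionLayer.Lift.Basic

set_option autoImplicit false

namespace CfsgLib.FusionLayer.Product

open Cfsg Cfsg.FusionSystem CfsgLib.Fusion

variable {Ω : Type*} [Group Ω] {T T₁ T₂ : Subgroup Ω} {E₁ : FusionSystem T₁}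
  {E₂ : FusionSystem T₂} {p : ℕ}

/-- The maps of `D` are the products of maps of `E₁` and maps of `E₂`. -/
def ProdMaps (E₁ : FusionSystem T₁) (E₂ : FusionSystem T₂) (D : FusionSystem T) : Prop :=
  ∀ (P : Subgroup Ω) (φ : P →* Ω), φ ∈ D.Hom P ↔
    ∃ (P₁ P₂ : Subgroup Ω), ∃ φ₁ ∈ E₁.Hom P₁, ∃ φ₂ ∈ E₂.Hom P₂,
      (∀ x : P, ∃ (a : P₁) (b : P₂), (a : Ω) * b = x) ∧
      ∀ (x : P) (a : P₁) (b : P₂), (a : Ω) * b = x → φ x = φ₁ a * φ₂ b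

/-- The extension of a map to the centre, fixing it. -/
theorem exists_ext_center [Finite T₁] {P : Subgroup Ω} {φ : P →* Ω} (hφ : φ ∈ E₁.Hom P) :
    ∃ ψ ∈ E₁.Hom (P ⊔ E₁.center), (∀ x : P, ψ (Subgroup.inclusion le_sup_left x) = φ x) ∧
      ∀ z : E₁.center, ψ (Subgroup.inclusion le_sup_right z) = z :=
  (FusionFactor.isCentral_center E₁).2 P φ hφ

/-- The product of two maps does not depend on the decomposition. -/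
theorem decomp_unique [Finite T₁] [Finite T₂] (hZ₁ : T₁ ⊓ T₂ ≤ E₁.center)
    (hZ₂ : T₁ ⊓ T₂ ≤ E₂.center) {P₁ P₂ : Subgroup Ω} {φ₁ : P₁ →* Ω} (hφ₁ : φ₁ ∈ E₁.Hom P₁)
    {φ₂ : P₂ →* Ω} (hφ₂ : φ₂ ∈ E₂.Hom P₂) {a a' : P₁} {b b' : P₂}
    (h : (a : Ω) * b = a' * b') : φ₁ a * φ₂ b = φ₁ a' * φ₂ b' := by
  have e : ((a'⁻¹ * a : P₁) : Ω) = ((b' * b⁻¹ : P₂) : Ω) := by
    show (a' : Ω)⁻¹ * a = b' * (b : Ω)⁻¹
    rw [eq_mul_inv_iff_mul_eq, mul_assoc, h, inv_mul_cancel_left]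
  have hc : ((a'⁻¹ * a : P₁) : Ω) ∈ T₁ ⊓ T₂ :=
    ⟨le_left hφ₁ (a'⁻¹ * a).2, e ▸ le_left hφ₂ (b' * b⁻¹).2⟩
  have h1 : φ₁ (a'⁻¹ * a) = ((a'⁻¹ * a : P₁) : Ω) :=
    apply_eq_of_central (FusionFactor.isCentral_center E₁) hφ₁ (hZ₁ hc)
  have h2 : φ₂ (b' * b⁻¹) = ((b' * b⁻¹ : P₂) : Ω) :=
    apply_eq_of_central (FusionFactor.isCentral_center E₂) hφ₂ (hZ₂ (e ▸ hc))
  have h3 : φ₁ a = φ₁ a' * φ₁ (a'⁻¹ * a) := by rw [← map_mul, mul_inv_cancel_left]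
  have h4 : φ₂ b' = φ₂ (b' * b⁻¹) * φ₂ b := by rw [← map_mul, inv_mul_cancel_right]
  rw [h3, h4, h1, h2, e, mul_assoc]

/-- The membership criterion by one decomposition for each element. -/
theorem ProdMaps.mk_mem [Finite T₁] [Finite T₂] {D : FusionSystem T} (hD : ProdMaps E₁ E₂ D)
    (hZ₁ : T₁ ⊓ T₂ ≤ E₁.center) (hZ₂ : T₁ ⊓ T₂ ≤ E₂.center) {P P₁ P₂ : Subgroup Ω}
    {φ₁ : P₁ →* Ω} (hφ₁ : φ₁ ∈ E₁.Hom P₁) {φ₂ : P₂ →* Ω} (hφ₂ : φ₂ ∈ E₂.Hom P₂) {φ : P →* Ω}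
    (h : ∀ x : P, ∃ (a : P₁) (b : P₂), (a : Ω) * b = x ∧ φ x = φ₁ a * φ₂ b) : φ ∈ D.Hom P :=
  (hD P φ).2 ⟨P₁, P₂, φ₁, hφ₁, φ₂, hφ₂, fun x => by
    obtain ⟨a, b, e, -⟩ := h x
    exact ⟨a, b, e⟩, fun x a b e => by
    obtain ⟨a', b', e', hv⟩ := h x
    rw [hv]
    exact decomp_unique hZ₁ hZ₂ hφ₁ hφ₂ (e'.trans e.symm)⟩

/-- The multiplication on a product of commuting subgroups. -/
def mulHom (hc : ∀ a ∈ T₁, ∀ b ∈ T₂, a * b = b * a) : ↥(T₁.prod T₂) →* Ω where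
  toFun z := (z : Ω × Ω).1 * (z : Ω × Ω).2
  map_one' := one_mul 1
  map_mul' z w := by
    show (z : Ω × Ω).1 * (w : Ω × Ω).1 * ((z : Ω × Ω).2 * (w : Ω × Ω).2) = _
    have h := hc _ w.2.1 _ z.2.2
    rw [mul_assoc, ← mul_assoc (w : Ω × Ω).1, h]
    simp only [mul_assoc]

theorem range_mulHom (hc : ∀ a ∈ T₁, ∀ b ∈ T₂, a * b = b * a) :
    (mulHom hc).range = T₁ ⊔ T₂ := by
  refine le_antisymm ?_ (sup_le (fun a ha => ⟨⟨(a, 1), ha, one_mem _⟩, mul_one a⟩)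
    fun b hb => ⟨⟨(1, b), one_mem _, hb⟩, one_mul b⟩)
  rintro _ ⟨z, rfl⟩
  exact mul_mem (Subgroup.mem_sup_left z.2.1) (Subgroup.mem_sup_right z.2.2)

/-- Elements of the join of commuting subgroups. -/
theorem exists_mul_eq (hc : ∀ a ∈ T₁, ∀ b ∈ T₂, a * b = b * a) {x : Ω} (hx : x ∈ T₁ ⊔ T₂) :
    ∃ a ∈ T₁, ∃ b ∈ T₂, a * b = x := by
  obtain ⟨z, rfl⟩ : x ∈ (mulHom hc).range := (range_mulHom hc).symm ▸ hx
  exact ⟨_, z.2.1, _, z.2.2, rfl⟩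

theorem isPGroup_prod [Fact p.Prime] (h₁ : IsPGroup p T₁) (h₂ : IsPGroup p T₂) :
    IsPGroup p (T₁.prod T₂) := by
  refine isPGroup_iff_pow_pow_eq_one.2 ?_
  rintro ⟨⟨a, b⟩, ha, hb⟩
  obtain ⟨i, hi⟩ := isPGroup_iff_pow_pow_eq_one.1 h₁ ⟨a, ha⟩
  obtain ⟨j, hj⟩ := isPGroup_iff_pow_pow_eq_one.1 h₂ ⟨b, hb⟩
  refine ⟨i + j, Subtype.ext (Prod.ext ?_ ?_)⟩
  · show a ^ p ^ (i + j) = 1
    rw [pow_add, pow_mul, show a ^ p ^ i = 1 from congrArg Subtype.val hi, one_pow]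
  · show b ^ p ^ (i + j) = 1
    rw [pow_add, mul_comm, pow_mul, show b ^ p ^ j = 1 from congrArg Subtype.val hj, one_pow]

/-- The central product exists, is saturated, and has the products of maps as its maps. -/
theorem exists_central_product [Finite T₁] [Finite T₂] [Fact p.Prime] (h₁ : IsPGroup p T₁)
    (h₂ : IsPGroup p T₂) (hE₁ : E₁.IsSaturated p) (hE₂ : E₂.IsSaturated p)
    (hc : ∀ a ∈ T₁, ∀ b ∈ T₂, a * b = b * a) (hZ₁ : T₁ ⊓ T₂ ≤ E₁.center)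
    (hZ₂ : T₁ ⊓ T₂ ≤ E₂.center) :
    ∃ D : FusionSystem (T₁ ⊔ T₂), D.IsSaturated p ∧ IsCentralProductOf E₁ E₂ D ∧
      ProdMaps E₁ E₂ D := by
  have hfin : Finite ↥(T₁.prod T₂) := Finite.of_equiv _ (T₁.prodEquiv T₂).symm.toEquiv
  obtain ⟨D₀, hD₀⟩ : ∃ D₀, D₀ = FusionFactor.productSystem E₁ E₂ := ⟨_, rfl⟩
  have hprod : IsProductSystem E₁ E₂ D₀ := hD₀ ▸ FusionFactor.isProductSystem_productSystem E₁ E₂
  obtain ⟨Z, hZdef⟩ : ∃ Z, Z = (mulHom hc).ker.map (T₁.prod T₂).subtype := ⟨_, rfl⟩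
  have hker : ∀ s : T₁.prod T₂, mulHom hc s = 1 ↔ (s : Ω × Ω) ∈ Z := fun s => by
    rw [hZdef, ← Subgroup.coe_subtype, Subgroup.mem_map_iff_mem Subtype.val_injective,
      MonoidHom.mem_ker]
  have hZmem : ∀ z ∈ Z, z.1 ∈ T₁ ⊓ T₂ ∧ z.2 ∈ T₁ ⊓ T₂ := by
    intro z hz
    rw [hZdef] at hz
    obtain ⟨s, hs, rfl⟩ := hz
    have e : (s : Ω × Ω).1 * (s : Ω × Ω).2 = 1 := hs
    have e1 := eq_inv_of_mul_eq_one_left e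
    have e2 := eq_inv_of_mul_eq_one_right e
    exact ⟨⟨s.2.1, e1.symm ▸ Subgroup.inv_mem _ s.2.2⟩, e2.symm ▸ Subgroup.inv_mem _ s.2.1, s.2.2⟩
  have hZS : Z ≤ T₁.prod T₂ := hZdef ▸ Subgroup.map_subtype_le _
  have hcen : D₀.IsCentral Z := by
    refine ⟨hZS, fun P φ hφ => ?_⟩
    obtain ⟨hP, φ₁, hφ₁, φ₂, hφ₂, hv⟩ := (hprod P φ).1 hφ
    obtain ⟨ψ₁, hψ₁, h11, h12⟩ := exists_ext_center hφ₁
    obtain ⟨ψ₂, hψ₂, h21, h22⟩ := exists_ext_center hφ₂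
    have l₁ : (P ⊔ Z).map (MonoidHom.fst Ω Ω) ≤ P.map (MonoidHom.fst Ω Ω) ⊔ E₁.center := by
      rw [Subgroup.map_sup]
      refine sup_le_sup_left ?_ _
      rintro _ ⟨z, hz, rfl⟩
      exact hZ₁ (hZmem z hz).1
    have l₂ : (P ⊔ Z).map (MonoidHom.snd Ω Ω) ≤ P.map (MonoidHom.snd Ω Ω) ⊔ E₂.center := by
      rw [Subgroup.map_sup]
      refine sup_le_sup_left ?_ _
      rintro _ ⟨z, hz, rfl⟩
      exact hZ₂ (hZmem z hz).2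
    refine ⟨MonoidHom.prod
      ((restrictHom ψ₁ l₁).comp ((MonoidHom.fst Ω Ω).subgroupMap (P ⊔ Z)))
      ((restrictHom ψ₂ l₂).comp ((MonoidHom.snd Ω Ω).subgroupMap (P ⊔ Z))),
      (hprod _ _).2 ⟨sup_le hP hZS, _, restrict_mem hψ₁ l₁, _, restrict_mem hψ₂ l₂,
        fun x _ _ => rfl⟩, fun x => ?_, fun z => ?_⟩
    · rw [hv x ⟨x, x.2, rfl⟩ ⟨x, x.2, rfl⟩]
      exact Prod.ext (h11 ⟨_, x, x.2, rfl⟩) (h21 ⟨_, x, x.2, rfl⟩)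
    · exact Prod.ext (h12 ⟨_, hZ₁ (hZmem z z.2).1⟩) (h22 ⟨_, hZ₂ (hZmem z z.2).2⟩)
  have hsc := stronglyClosed_of_central hcen
  obtain ⟨D, hD⟩ : ∃ D : FusionSystem (T₁ ⊔ T₂), D₀.IsFactorSystem Z (mulHom hc) D :=
    ⟨_, FusionFactor.isFactorSystem_factorSystem D₀ Z hsc (mulHom hc) hker _ (range_mulHom hc)⟩
  refine ⟨D, FusionFactor.isSaturated_factor (isPGroup_prod h₁ h₂)
    (FusionProduct.isSaturated_product h₁ h₂ hE₁ hE₂ hprod) hsc hD, ⟨D₀, hprod, Z, mulHom hc,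
      le_sSup hcen, ?_, ?_, fun x _ => mul_one x, fun y _ => one_mul y, hD⟩, fun P φ => ?_⟩
  · refine (Subgroup.eq_bot_iff_forall _).2 ?_
    rintro ⟨a, b⟩ ⟨hz, -, hb⟩
    obtain rfl : b = 1 := hb
    rw [hZdef] at hz
    obtain ⟨s, hs, he⟩ := hz
    have e : (s : Ω × Ω).1 * (s : Ω × Ω).2 = 1 := hs
    rw [show (s : Ω × Ω) = (a, 1) from he, mul_one] at e
    exact Prod.ext e rfl
  · refine (Subgroup.eq_bot_iff_forall _).2 ?_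
    rintro ⟨a, b⟩ ⟨hz, ha, -⟩
    obtain rfl : a = 1 := ha
    rw [hZdef] at hz
    obtain ⟨s, hs, he⟩ := hz
    have e : (s : Ω × Ω).1 * (s : Ω × Ω).2 = 1 := hs
    rw [show (s : Ω × Ω) = (1, b) from he, one_mul] at e
    exact Prod.ext rfl e
  rw [hD.2.2.2 P φ]
  constructor
  · rintro ⟨hP, φ', hφ', hPS, hφS, hP', hind⟩
    obtain ⟨-, φ₁, hφ₁, φ₂, hφ₂, hv⟩ := (hprod _ φ').1 hφ'
    refine ⟨_, _, φ₁, hφ₁, φ₂, hφ₂, fun x => ?_, fun x a b e => ?_⟩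
    · obtain ⟨a, ha, b, hb, e⟩ := exists_mul_eq hc (hP x.2)
      have hmem : (a, b) ∈ preimageAlong (mulHom hc) P :=
        FusionFactor.mem_preimageAlong.2 ⟨⟨ha, hb⟩, by
          show a * b ∈ P
          rw [e]; exact x.2⟩
      exact ⟨⟨a, _, hmem, rfl⟩, ⟨b, _, hmem, rfl⟩, e⟩
    · have hmem : ((a : Ω), (b : Ω)) ∈ preimageAlong (mulHom hc) P :=
        FusionFactor.mem_preimageAlong.2 ⟨⟨le_left hφ₁ a.2, le_left hφ₂ b.2⟩, by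
          show (a : Ω) * b ∈ P
          rw [e]; exact x.2⟩
      have h := hind ⟨_, hmem⟩
      have hval := hv ⟨_, hmem⟩ a.2 b.2
      refine Eq.trans (congrArg φ (Subtype.ext e.symm)) (h.trans ?_)
      show (φ' ⟨_, hmem⟩).1 * (φ' ⟨_, hmem⟩).2 = _
      rw [hval]
  · rintro ⟨P₁, P₂, φ₁, hφ₁, φ₂, hφ₂, hex, hv⟩
    have hP : P ≤ T₁ ⊔ T₂ := fun x hx => by
      obtain ⟨a, b, e⟩ := hex ⟨x, hx⟩
      have e' : (a : Ω) * b = x := e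
      rw [← e']
      exact mul_mem (Subgroup.mem_sup_left (le_left hφ₁ a.2))
        (Subgroup.mem_sup_right (le_left hφ₂ b.2))
    obtain ⟨ψ₁, hψ₁, h11, h12⟩ := exists_ext_center hφ₁
    obtain ⟨ψ₂, hψ₂, h21, h22⟩ := exists_ext_center hφ₂
    obtain ⟨W, hWdef⟩ : ∃ W, W = preimageAlong (mulHom hc) P := ⟨_, rfl⟩
    have hdec : ∀ z ∈ W, ∃ (a : P₁) (b : P₂), (a : Ω) * b = z.1 * z.2 ∧
        (a : Ω)⁻¹ * z.1 ∈ T₁ ⊓ T₂ ∧ (b : Ω)⁻¹ * z.2 ∈ T₁ ⊓ T₂ := by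
      intro z hz
      obtain ⟨⟨hz₁, hz₂⟩, hzP⟩ := FusionFactor.mem_preimageAlong.1 (hWdef ▸ hz)
      obtain ⟨a, b, e⟩ := hex ⟨_, hzP⟩
      have e' : (a : Ω) * b = z.1 * z.2 := e
      have e1 : (a : Ω)⁻¹ * z.1 = (b : Ω) * z.2⁻¹ := by
        rw [eq_mul_inv_iff_mul_eq, mul_assoc, ← e', inv_mul_cancel_left]
      have ha₁ : (a : Ω)⁻¹ * z.1 ∈ T₁ := mul_mem (Subgroup.inv_mem _ (le_left hφ₁ a.2)) hz₁
      have ha₂ : (b : Ω) * z.2⁻¹ ∈ T₂ := mul_mem (le_left hφ₂ b.2) (Subgroup.inv_mem _ hz₂)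
      refine ⟨a, b, e', ⟨ha₁, e1 ▸ ha₂⟩, ?_,
        mul_mem (Subgroup.inv_mem _ (le_left hφ₂ b.2)) hz₂⟩
      rw [show z.2 = ((a : Ω)⁻¹ * z.1)⁻¹ * b by rw [e1]; group,
        hc _ (Subgroup.inv_mem _ ha₁) _ (le_left hφ₂ b.2), inv_mul_cancel_left]
      exact Subgroup.inv_mem _ ha₁
    have l₁ : W.map (MonoidHom.fst Ω Ω) ≤ P₁ ⊔ E₁.center := by
      rintro _ ⟨z, hz, rfl⟩
      obtain ⟨a, b, -, ha, -⟩ := hdec z hz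
      show z.1 ∈ P₁ ⊔ E₁.center
      rw [← mul_inv_cancel_left (a : Ω) z.1]
      exact Subgroup.mul_mem_sup a.2 (hZ₁ ha)
    have l₂ : W.map (MonoidHom.snd Ω Ω) ≤ P₂ ⊔ E₂.center := by
      rintro _ ⟨z, hz, rfl⟩
      obtain ⟨a, b, -, -, hb⟩ := hdec z hz
      show z.2 ∈ P₂ ⊔ E₂.center
      rw [← mul_inv_cancel_left (b : Ω) z.2]
      exact Subgroup.mul_mem_sup b.2 (hZ₂ hb)
    subst hWdef
    let ψ := MonoidHom.prod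
      ((restrictHom ψ₁ l₁).comp ((MonoidHom.fst Ω Ω).subgroupMap (preimageAlong (mulHom hc) P)))
      ((restrictHom ψ₂ l₂).comp ((MonoidHom.snd Ω Ω).subgroupMap (preimageAlong (mulHom hc) P)))
    have hψ : ψ ∈ D₀.Hom (preimageAlong (mulHom hc) P) :=
      (hprod _ _).2 ⟨FusionFactor.preimageAlong_le _ _, _, restrict_mem hψ₁ l₁, _,
        restrict_mem hψ₂ l₂, fun x _ _ => rfl⟩
    refine ⟨hP, ψ, hψ, FusionFactor.preimageAlong_le _ _, (D₀.le_of_mem hψ).2,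
      fun x => (FusionFactor.mem_preimageAlong.1 x.2).2, fun z => ?_⟩
    obtain ⟨hz₁, hz₂⟩ := FusionFactor.preimageAlong_le (mulHom hc) P z.2
    obtain ⟨a, b, e, ha, hb⟩ := hdec z z.2
    show φ ⟨(z : Ω × Ω).1 * (z : Ω × Ω).2, (FusionFactor.mem_preimageAlong.1 z.2).2⟩ =
      ψ₁ ⟨(z : Ω × Ω).1, l₁ ⟨z, z.2, rfl⟩⟩ * ψ₂ ⟨(z : Ω × Ω).2, l₂ ⟨z, z.2, rfl⟩⟩
    rw [hv _ a b e, ← h11 a, ← h21 b]
    exact decomp_unique hZ₁ hZ₂ hψ₁ hψ₂ e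

end CfsgLib.FusionLayer.Product
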