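/-
The automorphisms of `T₁` in a normal subsystem extend trivially from `T₁T₂`, fixing `T₂`.
-/
import Cfsg.Agent.FusionLayer.Residual.TrivialExt
import Cfsg.Agent.FusionLayer.Lift.Basic
import Cfsg.Agent.Transfer.Residual

set_option autoImplicit false

namespace CfsgLib.FusionLayer.Product

open Cfsg Cfsg.FusionSystem CfsgLib.Fusion

variable {Ω : Type*} [Group Ω] {S T₁ T₂ : Subgroup Ω} {F : FusionSystem S}
  {E₁ : FusionSystem T₁} {p : ℕ}

/-- `α` is the restriction to `T₁` of an automorphism of `T` extending trivially, fixing `T₂`. -/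
def ExtendsTop (F : FusionSystem S) {T : Subgroup Ω} (h₁ : T₁ ≤ T) (T₂ : Subgroup Ω)
    (α : MulAut T₁) : Prop :=
  ∃ b : MulAut T, TrivialExt F T b ∧ (∀ a : T₁, (b (Subgroup.inclusion h₁ a) : Ω) = (α a : Ω)) ∧
    ∀ x : T, (x : Ω) ∈ T₂ → b x = x

/-- These automorphisms form a subgroup. -/
def extendsTopGroup [Finite S] (F : FusionSystem S) {T : Subgroup Ω} (h₁ : T₁ ≤ T) (hTS : T ≤ S)
    (T₂ : Subgroup Ω) : Subgroup (MulAut T₁) where
  carrier := {α | ExtendsTop F h₁ T₂ α}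
  one_mem' := ⟨1, trivialExt_one T, fun a => rfl, fun x _ => rfl⟩
  mul_mem' := by
    rintro α β ⟨b, hb, hb1, hb2⟩ ⟨c, hc, hc1, hc2⟩
    refine ⟨b * c, hb.mul hTS hc, fun a => ?_, fun x hx => ?_⟩
    · rw [MulAut.mul_apply, show c (Subgroup.inclusion h₁ a) = Subgroup.inclusion h₁ (β a) from
        Subtype.ext (hc1 a), hb1]
      rfl
    · rw [MulAut.mul_apply, hc2 x hx, hb2 x hx]
  inv_mem' := by
    rintro α ⟨b, hb, hb1, hb2⟩
    refine ⟨b⁻¹, (trivialExtGroup F hTS).inv_mem' hb, fun a => ?_, fun x hx => ?_⟩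
    · conv_lhs => rw [← MulAut.apply_inv_self _ α a]
      rw [show Subgroup.inclusion h₁ (α (α⁻¹ a)) = b (Subgroup.inclusion h₁ (α⁻¹ a)) from
        Subtype.ext (hb1 _).symm, MulAut.inv_apply_self]
      rfl
    · conv_lhs => rw [← hb2 x hx]
      exact MulAut.inv_apply_self ..

/-- The extension to `T₁T₂` of an automorphism of order prime to `p`. -/
theorem extendsTop_of_coprime [Finite S] [Fact p.Prime] (hS : IsPGroup p S)
    (hn : E₁.IsNormalIn F p) (hT₂ : F.StronglyClosed T₂)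
    (hc : ∀ a ∈ T₁, ∀ b ∈ T₂, a * b = b * a) (hZ : T₁ ⊓ T₂ ≤ E₁.center) {α : MulAut T₁}
    (hα : α ∈ E₁.autGroup T₁) (hcop : (orderOf α).Coprime p) :
    ExtendsTop F (le_sup_left : T₁ ≤ T₁ ⊔ T₂) T₂ α := by
  obtain ⟨β, hβ, hβ1, hβ2⟩ := hn.2 α hα
  have hT₁ := hn.1.2.2.2.1
  have := finite_of_le hT₁.1
  obtain ⟨W₁, hW₁⟩ : ∃ W₁, W₁ = T₁ ⊔ centralizerIn S T₁ := ⟨_, rfl⟩
  obtain ⟨i, hi⟩ := (hS.to_le hT₁.1).exists_card_eq
  obtain ⟨m, hm⟩ := exists_pow_eq_self_of_coprime (n := p ^ i) (x := α) (hcop.pow_right i).symm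
  have hαk : α ^ (p ^ i * m) = α := by rw [pow_mul]; exact hm
  have hW₁S : T₁ ⊔ centralizerIn S T₁ ≤ S := sup_le hT₁.1 (centralizerIn_le S T₁)
  have := finite_of_le hW₁S
  have hT₂C : T₂ ≤ centralizerIn S T₁ := fun b hb =>
    mem_centralizerIn.2 ⟨hT₂.1 hb, fun a ha => hc a ha b hb⟩
  have hTS : T₁ ⊔ T₂ ≤ S := sup_le hT₁.1 hT₂.1
  have hWW : T₁ ⊔ T₂ ⊔ centralizerIn S (T₁ ⊔ T₂) ≤ T₁ ⊔ centralizerIn S T₁ :=
    sup_le (sup_le_sup_left hT₂C _)
      ((centralizerIn_anti le_sup_left).trans le_sup_right)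
  have hWS := hWW.trans hW₁S
  have hdisp : ∀ (n : ℕ) (c : ↥(T₁ ⊔ centralizerIn S T₁)), (c : Ω) ∈ centralizerIn S T₁ →
      (c : Ω)⁻¹ * ((β ^ n) c : Ω) ∈ T₁ ⊓ Subgroup.centralizer (T₁ : Set Ω) := by
    intro n c hcC
    induction n with
    | zero => simp
    | succ n ih =>
      let z : ↥(T₁ ⊔ centralizerIn S T₁) := c⁻¹ * (β ^ n) c
      let z₁ : T₁ := ⟨_, ih.1⟩
      have hz : z = Subgroup.inclusion le_sup_left z₁ := rfl
      have hαz : (α z₁ : Ω) ∈ Subgroup.centralizer (T₁ : Set Ω) := by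
        refine Subgroup.mem_centralizer_iff.2 fun u hu => ?_
        obtain ⟨w, hw⟩ := α.surjective ⟨u, hu⟩
        rw [← show (α w : Ω) = u from congrArg Subtype.val hw, ← Subgroup.coe_mul,
          ← Subgroup.coe_mul, ← map_mul, ← map_mul]
        exact congrArg (fun v : T₁ => (α v : Ω))
          (Subtype.ext (Subgroup.mem_centralizer_iff.1 ih.2 w w.2))
      rw [pow_succ', MulAut.mul_apply, show (β ^ n) c = c * z from (mul_inv_cancel_left _ _).symm,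
        map_mul, Subgroup.coe_mul, ← mul_assoc, hz, hβ1]
      exact mul_mem (hβ2 c hcC) ⟨(α z₁).2, hαz⟩
  obtain ⟨γ, hγdef⟩ : ∃ γ, γ = β ^ (p ^ i * m) := ⟨_, rfl⟩
  have hγF : γ ∈ F.autGroup (T₁ ⊔ centralizerIn S T₁) := hγdef ▸ pow_mem hβ _
  have hγ1 : ∀ a : T₁, (γ (Subgroup.inclusion le_sup_left a) : Ω) = (α a : Ω) := fun a => by
    rw [hγdef, ← pow_agree (b := α) (a := β) le_sup_left (fun y => (hβ1 y).symm) (p ^ i * m) a,
      hαk]
  have hγ2 : ∀ w : ↥(T₁ ⊔ centralizerIn S T₁), (w : Ω) ∈ T₂ → γ w = w := by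
    intro w hw
    have hd := hβ2 w (hT₂C hw)
    have hβw' : ((β w : ↥(T₁ ⊔ centralizerIn S T₁)) : Ω) ∈ T₂ :=
      (stronglyClosed_aut_iff hT₂ hβ).2 hw
    let d : T₁ := ⟨_, hd.1⟩
    have hdZ : (d : Ω) ∈ E₁.center := hZ ⟨d.2, mul_mem (Subgroup.inv_mem _ hw) hβw'⟩
    have hαd : (α d : Ω) = d :=
      apply_eq_of_central (FusionFactor.isCentral_center E₁) ((mem_autGroup_iff le_rfl).1 hα) hdZ
    let d' : ↥(T₁ ⊔ centralizerIn S T₁) := Subgroup.inclusion le_sup_left d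
    have hβd : β d' = d' := Subtype.ext ((hβ1 d).trans hαd)
    have hβw : β w = w * d' := Subtype.ext (mul_inv_cancel_left (w : Ω) _).symm
    have hpow : ∀ n : ℕ, (β ^ n) w = w * d' ^ n := by
      intro n
      induction n with
      | zero => simp
      | succ n ih =>
        rw [pow_succ', MulAut.mul_apply, ih, map_mul, map_pow, hβd, hβw, mul_assoc, ← pow_succ']
    rw [hγdef, hpow, show d' ^ (p ^ i * m) = 1 from ?_, mul_one]
    have h1 : d ^ Nat.card T₁ = 1 := pow_card_eq_one'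
    rw [hi] at h1
    rw [← map_pow, pow_mul, h1, one_pow, map_one]
  have hT₁c : ∀ x ∈ T₁, x ∈ Subgroup.centralizer (T₁ : Set Ω) →
      x ∈ Subgroup.centralizer ((T₁ ⊔ T₂ : Subgroup Ω) : Set Ω) := by
    intro x hx hxC
    suffices h : T₁ ⊔ T₂ ≤ Subgroup.centralizer ({x} : Set Ω) from
      Subgroup.mem_centralizer_iff.2 fun u hu =>
        (Subgroup.mem_centralizer_iff.1 (h hu) x rfl).symm
    refine sup_le (fun u hu => Subgroup.mem_centralizer_iff.2 ?_)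
      fun u hu => Subgroup.mem_centralizer_iff.2 ?_
    · intro y hy
      rw [Set.mem_singleton_iff.1 hy]
      exact (Subgroup.mem_centralizer_iff.1 hxC u hu).symm
    · intro y hy
      rw [Set.mem_singleton_iff.1 hy]
      exact hc x hx u hu
  have hγd : ∀ c : ↥(T₁ ⊔ centralizerIn S T₁), (c : Ω) ∈ centralizerIn S (T₁ ⊔ T₂) →
      (c : Ω)⁻¹ * (γ c : Ω) ∈ (T₁ ⊔ T₂) ⊓
        Subgroup.centralizer ((T₁ ⊔ T₂ : Subgroup Ω) : Set Ω) := fun c hcC => by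
    have h := hdisp (p ^ i * m) c (centralizerIn_anti le_sup_left hcC)
    rw [hγdef]
    exact ⟨Subgroup.mem_sup_left h.1, hT₁c _ h.1 h.2⟩
  have hpres : ∀ w : ↥(T₁ ⊔ centralizerIn S T₁),
      (w : Ω) ∈ T₁ ⊔ T₂ ⊔ centralizerIn S (T₁ ⊔ T₂) →
      (γ w : Ω) ∈ T₁ ⊔ T₂ ⊔ centralizerIn S (T₁ ⊔ T₂) := by
    rintro ⟨w, hw₁⟩ hw
    refine forall_mem_sup ((T₁ ⊔ centralizerIn S T₁).subtype.comp γ.toMonoidHom)
      (le_sup_left.trans hWW) (le_sup_right.trans hWW) (fun x hx => ?_) (fun x hx => ?_) hw₁ hw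
    · refine Subgroup.mem_sup_left (forall_mem_sup
        ((T₁ ⊔ centralizerIn S T₁).subtype.comp γ.toMonoidHom) le_sup_left
        (hT₂C.trans le_sup_right) (fun a ha => ?_) (fun b hb => ?_) _ hx)
      · show (γ (Subgroup.inclusion le_sup_left ⟨a, ha⟩) : Ω) ∈ _
        rw [hγ1]
        exact Subgroup.mem_sup_left (α _).2
      · show (γ _ : Ω) ∈ _
        rw [hγ2 _ hb]
        exact Subgroup.mem_sup_right hb
    · show (γ _ : Ω) ∈ _
      rw [← mul_inv_cancel_left x (γ ⟨x, le_sup_right.trans hWW hx⟩ : Ω)]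
      exact mul_mem (Subgroup.mem_sup_right hx) (Subgroup.mem_sup_left (hγd ⟨x, le_sup_right.trans hWW hx⟩ hx).1)
  obtain ⟨δ, hδ, hδv⟩ := exists_restrict_aut hWW hW₁S hγF hpres
  obtain ⟨b, -, hbv⟩ := exists_restrict_aut (V := T₁ ⊔ T₂)
    (le_sup_left : T₁ ⊔ T₂ ≤ T₁ ⊔ T₂ ⊔ centralizerIn S (T₁ ⊔ T₂)) hWS hδ fun x hx => by
      rw [hδv]
      refine forall_mem_sup ((T₁ ⊔ centralizerIn S T₁).subtype.comp γ.toMonoidHom) le_sup_left
        (hT₂C.trans le_sup_right) (fun a ha => ?_) (fun b hb => ?_) _ hx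
      · show (γ (Subgroup.inclusion le_sup_left ⟨a, ha⟩) : Ω) ∈ _
        rw [hγ1]
        exact Subgroup.mem_sup_left (α _).2
      · show (γ _ : Ω) ∈ _
        rw [hγ2 _ hb]
        exact Subgroup.mem_sup_right hb
  refine ⟨b, ⟨δ, hδ, fun x => (hbv x).symm, fun c hcC => ?_⟩, fun a => ?_, fun x hx => ?_⟩
  · rw [hδv]
    exact hγd (Subgroup.inclusion hWW c) hcC
  · rw [hbv, hδv]
    exact hγ1 a
  · refine Subtype.ext ?_
    rw [hbv, hδv, hγ2 _ hx]
    rfl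

/-- Every automorphism of `T₁` in a normal subsystem extends trivially from `T₁T₂`, fixing
`T₂`. -/
theorem extendsTop [Finite S] [Fact p.Prime] (hS : IsPGroup p S) (hn : E₁.IsNormalIn F p)
    (hT₂ : F.StronglyClosed T₂) (hT : F.StronglyClosed (T₁ ⊔ T₂))
    (hc : ∀ a ∈ T₁, ∀ b ∈ T₂, a * b = b * a) (hZ : T₁ ⊓ T₂ ≤ E₁.center) {α : MulAut T₁}
    (hα : α ∈ E₁.autGroup T₁) : ExtendsTop F (le_sup_left : T₁ ≤ T₁ ⊔ T₂) T₂ α := by
  have hT₁S := hn.1.2.2.2.1.1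
  have := finite_of_le hT₁S
  obtain ⟨R₀, hR₀⟩ := (automized_receptive (hS.to_le hT₁S) hn.1.1
    (isFullyNormalized_self (F := E₁))).1.2
  have hsub : (⊤ : Subgroup (E₁.autGroup T₁)) ≤
      (extendsTopGroup F le_sup_left hT.1 T₂).subgroupOf (E₁.autGroup T₁) := by
    rw [← Transfer.sylow_sup_pResidual R₀, sup_le_iff]
    refine ⟨fun g hg => ?_, (Subgroup.closure_le _).2 fun g hg => ?_⟩
    · rw [hR₀] at hg
      obtain ⟨t, ht, -, htv⟩ := mem_autInducedBy_iff.1 hg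
      have htT : t ∈ T₁ ⊔ T₂ := Subgroup.mem_sup_left ht
      refine ⟨_, trivialExt_conj_of_mem hT le_rfl (centralizerIn_le _ _) htT
        (Subgroup.le_normalizer htT), fun a => (htv a).symm, fun x hx => Subtype.ext ?_⟩
      show t * (x : Ω) * t⁻¹ = x
      rw [hc t ht x hx, mul_inv_cancel_right]
    · exact extendsTop_of_coprime hS hn hT₂ hc hZ g.2 (by
        show (orderOf (g : MulAut T₁)).Coprime p
        rw [Subgroup.orderOf_coe]; exact hg)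
  exact hsub (Subgroup.mem_top ⟨α, hα⟩)

end CfsgLib.FusionLayer.Product
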