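/-
The central product of two commuting normal subsystems is normal.
-/
import Cfsg.Agent.FusionLayer.Product.Extension
import Cfsg.Agent.FusionLayer.Product.System
import Cfsg.Agent.FusionLayer.Product.Steps
import Cfsg.Agent.FusionLayer.Product.TopExt
import Cfsg.Agent.FusionWeakEmb.Basic

set_option autoImplicit false

namespace CfsgLib.FusionLayer.Product

open Cfsg Cfsg.FusionSystem CfsgLib.Fusion CfsgLib.FusionAgemo CfsgLib.FusionClosed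

variable {Ω : Type*} [Group Ω] {S T T₁ T₂ : Subgroup Ω} {F : FusionSystem S}
  {E₁ : FusionSystem T₁} {E₂ : FusionSystem T₂} {p : ℕ}

/-- An element of `A` normalizing `P` outside `P`. -/
theorem exists_normalizing [Finite S] [Fact p.Prime] (hS : IsPGroup p S) {A P : Subgroup Ω}
    (hAS : A ≤ S) (hPS : P ≤ S) (hn : P ≤ Subgroup.normalizer (A : Set Ω)) (hne : ¬ A ≤ P) :
    ∃ c ∈ A, c ∈ normalizerIn S P ∧ c ∉ P := by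
  have hlt : P < A ⊔ P := lt_of_le_of_ne le_sup_right fun h => hne (h ▸ le_sup_left)
  have := finite_of_le (sup_le hAS hPS)
  obtain ⟨m, hm, hmP⟩ := SetLike.exists_of_lt
    (lt_normalizerIn (p := p) (hS.to_le (sup_le hAS hPS)) hlt)
  obtain ⟨c, hc, x, hx, hcx⟩ : ∃ c ∈ A, ∃ x ∈ P, c * x = m := by
    have hmem : m ∈ ((A ⊔ P : Subgroup Ω) : Set Ω) := hm.1
    rw [Subgroup.coe_mul_of_right_le_normalizer_left _ _ hn] at hmem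
    exact hmem
  refine ⟨c, hc, ⟨hAS hc, ?_⟩, fun h => hmP (hcx ▸ P.mul_mem h hx)⟩
  rw [show c = m * x⁻¹ by rw [← hcx]; group]
  exact mul_mem hm.2 (Subgroup.inv_mem _ (Subgroup.le_normalizer hx))

/-- An element of `T₁` normalizing `P` outside `P` with a translate by `T₂` inside `P`. -/
theorem exists_proj_elt [Finite S] [Fact p.Prime] (hS : IsPGroup p S) {P : Subgroup Ω}
    (hPS : P ≤ S) (hT : F.StronglyClosed T) (hT₁ : F.StronglyClosed T₁)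
    (hT₂ : F.StronglyClosed T₂) (hne : ¬ T₁ ⊓ ((P ⊓ T) ⊔ T₂) ≤ P) :
    ∃ c ∈ T₁, c ∈ normalizerIn S P ∧ c ∉ P ∧ ∃ t ∈ T₂, c * t ∈ P := by
  have hle : P ⊓ T ≤ Subgroup.normalizer (T₂ : Set Ω) :=
    fun y hy => stronglyClosed_le_normalizer hT₂ (hPS hy.1)
  have hmul : ∀ y ∈ (P ⊓ T) ⊔ T₂, ∃ q ∈ P ⊓ T, ∃ t ∈ T₂, q * t = y := fun y hy => by
    have hy' : y ∈ (((P ⊓ T) ⊔ T₂ : Subgroup Ω) : Set Ω) := hy
    rw [Subgroup.coe_mul_of_left_le_normalizer_right _ _ hle] at hy'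
    exact hy'
  have hAS : T₁ ⊓ ((P ⊓ T) ⊔ T₂) ≤ S := inf_le_left.trans hT₁.1
  have hn : P ≤ Subgroup.normalizer ((T₁ ⊓ ((P ⊓ T) ⊔ T₂) : Subgroup Ω) : Set Ω) := by
    intro g hg
    have := finite_of_le hAS
    refine SatCriterion.mem_normalizer_of_finite fun y hy => ⟨?_, ?_⟩
    · exact (stronglyClosed_conj_iff hT₁ (hPS hg) (hT₁.1 hy.1)).2 hy.1
    · obtain ⟨q, hq, t, ht, e⟩ := hmul y hy.2
      rw [← e, show g * (q * t) * g⁻¹ = g * q * g⁻¹ * (g * t * g⁻¹) by group]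
      exact Subgroup.mul_mem_sup
        ⟨mul_mem (mul_mem hg hq.1) (Subgroup.inv_mem _ hg),
          (stronglyClosed_conj_iff hT (hPS hg) (hPS hq.1)).2 hq.2⟩
        ((stronglyClosed_conj_iff hT₂ (hPS hg) (hT₂.1 ht)).2 ht)
  obtain ⟨c, hc, hcN, hcP⟩ := exists_normalizing hS hAS hPS hn hne
  obtain ⟨q, hq, t, ht, e⟩ := hmul c hc.2
  refine ⟨c, hc.1, hcN, hcP, t⁻¹, Subgroup.inv_mem _ ht, ?_⟩
  rw [← e, mul_inv_cancel_right]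
  exact hq.1

/-- The trivial extension from `T` for any name `T` of `T₁T₂`. -/
theorem extendsTop' [Finite S] [Fact p.Prime] (hS : IsPGroup p S) (hn : E₁.IsNormalIn F p)
    (hT₂ : F.StronglyClosed T₂) (hT : F.StronglyClosed T) (hTeq : T = T₁ ⊔ T₂)
    (hc : ∀ a ∈ T₁, ∀ b ∈ T₂, a * b = b * a) (hZ : T₁ ⊓ T₂ ≤ E₁.center) {α : MulAut T₁}
    (hα : α ∈ E₁.autGroup T₁) (h₁ : T₁ ≤ T) : ExtendsTop F h₁ T₂ α := by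
  subst hTeq
  exact extendsTop hS hn hT₂ hT hc hZ hα

section main

variable [Finite S] [Fact p.Prime] {D : FusionSystem (T₁ ⊔ T₂)}

/-- The product of maps is a map of the big system. -/
theorem isSubsystemOf_product (hS : IsPGroup p S) (hn₁ : E₁.IsNormalIn F p)
    (hn₂ : E₂.IsNormalIn F p) (hc : ∀ a ∈ T₁, ∀ b ∈ T₂, a * b = b * a)
    (hZ₁ : T₁ ⊓ T₂ ≤ E₁.center) (hZ₂ : T₁ ⊓ T₂ ≤ E₂.center) (hD : ProdMaps E₁ E₂ D) :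
    D.IsSubsystemOf F := by
  intro P φ hφ
  obtain ⟨P₁, P₂, φ₁, hφ₁, φ₂, hφ₂, hex, hv⟩ := (hD P φ).1 hφ
  obtain ⟨χ₁, hχ₁, h11, h12⟩ := exists_ext_fix hS hn₁ hn₂.1.2.2.2.1 hc hZ₁ hφ₁
  obtain ⟨χ₂, hχ₂, h21, h22⟩ := exists_ext_fix hS hn₂ hn₁.1.2.2.2.1
    (fun b hb a ha => (hc a ha b hb).symm) (inf_comm T₁ T₂ ▸ hZ₂) hφ₂
  have hP : P ≤ P₁ ⊔ T₂ := fun x hx => by
    obtain ⟨a, b, e⟩ := hex ⟨x, hx⟩
    have e' : (a : Ω) * b = x := e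
    rw [← e']
    exact Subgroup.mul_mem_sup a.2 (le_left hφ₂ b.2)
  have hval : ∀ (x : P) (a : P₁) (b : P₂), (a : Ω) * b = x →
      restrictHom χ₁ hP x = φ₁ a * b := fun x a b e => by
    rw [restrictHom_apply, show (⟨(x : Ω), hP x.2⟩ : ↥(P₁ ⊔ T₂)) =
      Subgroup.inclusion le_sup_left a *
        Subgroup.inclusion le_sup_right ⟨(b : Ω), le_left hφ₂ b.2⟩ from Subtype.ext e.symm,
      map_mul, h11, h12]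
  have hmem : ∀ x, restrictHom χ₁ hP x ∈ P₂ ⊔ T₁ := fun x => by
    obtain ⟨a, b, e⟩ := hex x
    rw [hval x a b e]
    exact mul_mem (Subgroup.mem_sup_right (apply_mem hφ₁ a)) (Subgroup.mem_sup_left b.2)
  refine mem_of_comp (restrict_mem hχ₁ hP) hχ₂ hmem fun x => ?_
  obtain ⟨a, b, e⟩ := hex x
  rw [show (⟨restrictHom χ₁ hP x, hmem x⟩ : ↥(P₂ ⊔ T₁)) =
    Subgroup.inclusion le_sup_right ⟨φ₁ a, apply_mem hφ₁ a⟩ * Subgroup.inclusion le_sup_left b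
    from Subtype.ext (hval x a b e), map_mul, h21, h22, hv x a b e]

omit [Fact p.Prime] in
/-- The product is invariant under the automorphisms of `T₁T₂`. -/
theorem autInvariant_product (hn₁ : E₁.IsNormalIn F p)
    (hn₂ : E₂.IsNormalIn F p) (hZ₁ : T₁ ⊓ T₂ ≤ E₁.center) (hZ₂ : T₁ ⊓ T₂ ≤ E₂.center)
    (hD : ProdMaps E₁ E₂ D) : AutInvariant D F := by
  intro P hPT φ hφ α hα
  obtain ⟨P₁, P₂, φ₁, hφ₁, φ₂, hφ₂, hex, hv⟩ := (hD P φ).1 hφ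
  have hT₁ := hn₁.1.2.2.2.1
  have hT₂ := hn₂.1.2.2.2.1
  have hTS : T₁ ⊔ T₂ ≤ S := sup_le hT₁.1 hT₂.1
  have := finite_of_le hT₁.1
  have := finite_of_le hT₂.1
  obtain ⟨α₁, hα₁, hα₁v⟩ := exists_restrict_aut (le_sup_left : T₁ ≤ T₁ ⊔ T₂) hTS hα
    fun x hx => (stronglyClosed_aut_iff hT₁ hα).2 hx
  obtain ⟨α₂, hα₂, hα₂v⟩ := exists_restrict_aut (le_sup_right : T₂ ≤ T₁ ⊔ T₂) hTS hα
    fun x hx => (stronglyClosed_aut_iff hT₂ hα).2 hx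
  obtain ⟨χ₁, hχ₁, hχ₁v⟩ := hn₁.1.2.2.2.2.1 P₁ (le_left hφ₁) φ₁ hφ₁ α₁ hα₁
  obtain ⟨χ₂, hχ₂, hχ₂v⟩ := hn₂.1.2.2.2.2.1 P₂ (le_left hφ₂) φ₂ hφ₂ α₂ hα₂
  obtain ⟨R, hRdef⟩ : ∃ R, R = (P.subgroupOf (T₁ ⊔ T₂)).map
      ((T₁ ⊔ T₂).subtype.comp α.toMonoidHom) := ⟨_, rfl⟩
  have hRT : R ≤ T₁ ⊔ T₂ := by
    rw [hRdef]
    rintro _ ⟨x, -, rfl⟩
    exact (α x).2
  have hback : ∀ y : R, ((α⁻¹ ⟨y, hRT y.2⟩ : ↥(T₁ ⊔ T₂)) : Ω) ∈ P := by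
    rintro ⟨y, hy⟩
    obtain ⟨x, hx, hxy⟩ := hRdef ▸ hy
    rw [show (⟨y, hRT hy⟩ : ↥(T₁ ⊔ T₂)) = α x from Subtype.ext hxy.symm, MulAut.inv_apply_self]
    exact hx
  let bk : R →* P :=
    (((T₁ ⊔ T₂).subtype.comp (α⁻¹ : MulAut _).toMonoidHom).comp
      (Subgroup.inclusion hRT)).codRestrict P hback
  let χ : R →* Ω := ((T₁ ⊔ T₂).subtype.comp α.toMonoidHom).comp
    ((φ.codRestrict (T₁ ⊔ T₂) (apply_mem hφ)).comp bk)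
  have hχ : χ ∈ D.Hom R := by
    refine hD.mk_mem hZ₁ hZ₂ hχ₁ hχ₂ fun y => ?_
    obtain ⟨a, b, e⟩ := hex (bk y)
    have hy : (y : Ω) = (α₁ ⟨a, le_left hφ₁ a.2⟩ : Ω) * (α₂ ⟨b, le_left hφ₂ b.2⟩ : Ω) := by
      rw [hα₁v, hα₂v, ← Subgroup.coe_mul, ← map_mul,
        show Subgroup.inclusion le_sup_left ⟨(a : Ω), le_left hφ₁ a.2⟩ *
          Subgroup.inclusion le_sup_right ⟨(b : Ω), le_left hφ₂ b.2⟩ =
          (α⁻¹ ⟨y, hRT y.2⟩ : ↥(T₁ ⊔ T₂)) from Subtype.ext e, MulAut.apply_inv_self]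
    refine ⟨⟨_, ⟨⟨a, le_left hφ₁ a.2⟩, a.2, rfl⟩⟩, ⟨_, ⟨⟨b, le_left hφ₂ b.2⟩, b.2, rfl⟩⟩,
      hy.symm, ?_⟩
    refine Eq.trans ?_ (congrArg₂ (· * ·) (hχ₁v a (apply_mem hφ₁ a) _).symm
      (hχ₂v b (apply_mem hφ₂ b) _).symm)
    show (α ⟨φ (bk y), apply_mem hφ _⟩ : Ω) = _
    rw [hα₁v, hα₂v, ← Subgroup.coe_mul, ← map_mul]
    exact congrArg (fun w : ↥(T₁ ⊔ T₂) => ((α w : ↥(T₁ ⊔ T₂)) : Ω)) (Subtype.ext (hv _ a b e))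
  subst hRdef
  refine ⟨χ, hχ, fun x hφx hαx => ?_⟩
  show (α ⟨φ (bk ⟨_, hαx⟩), apply_mem hφ _⟩ : Ω) = _
  refine congrArg (fun w : ↥(T₁ ⊔ T₂) => ((α w : ↥(T₁ ⊔ T₂)) : Ω))
    (Subtype.ext (congrArg φ (Subtype.ext ?_)))
  show ((α⁻¹ ⟨(α ⟨x, hPT x.2⟩ : Ω), _⟩ : ↥(T₁ ⊔ T₂)) : Ω) = x
  rw [Subtype.coe_eta, MulAut.inv_apply_self]

/-- The product satisfies the Frattini condition. -/
theorem frattini_product (hS : IsPGroup p S) (hn₁ : E₁.IsNormalIn F p)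
    (hn₂ : E₂.IsNormalIn F p) (hc : ∀ a ∈ T₁, ∀ b ∈ T₂, a * b = b * a)
    (hZ₁ : T₁ ⊓ T₂ ≤ E₁.center) (hZ₂ : T₁ ⊓ T₂ ≤ E₂.center) (hD : ProdMaps E₁ E₂ D)
    (hT : F.StronglyClosed (T₁ ⊔ T₂)) (hinv : AutInvariant D F) (P : Subgroup Ω)
    (hP : P ≤ T₁ ⊔ T₂) (φ : P →* Ω) (hφ : φ ∈ F.Hom P) :
    ∃ α ∈ F.autGroup (T₁ ⊔ T₂), ∃ φ₀ ∈ D.Hom P,
      ∀ (x : P) (hx : φ₀ x ∈ T₁ ⊔ T₂), φ x = ((α ⟨φ₀ x, hx⟩ : ↥(T₁ ⊔ T₂)) : Ω) := by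
  have hF := hn₁.1.2.1
  have hT₁ := hn₁.1.2.2.2.1
  have hT₂ := hn₂.1.2.2.2.1
  have := finite_of_le hT₁.1
  have := finite_of_le hT₂.1
  obtain ⟨G, hG⟩ := exists_decomp_system hT hinv
  suffices hFG : F.IsSubsystemOf G by
    obtain ⟨-, α, hα, φ₀, hφ₀, hv⟩ := (hG P φ).1 (hFG P hφ)
    have hle : P ≤ P ⊓ (T₁ ⊔ T₂) := le_inf le_rfl hP
    exact ⟨α, hα, restrictHom φ₀ hle, restrict_mem hφ₀ hle, fun x hx => hv ⟨x, hle x.2⟩ hx⟩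
  refine isSubsystemOf_of_aut hS hF fun P hPn habove α hα => ?_
  have hPS := hPn.1
  have := finite_of_le hPS
  have hiso : IsIso F α := (mem_autGroup_iff hPS).1 hα
  by_cases hTP : T₁ ⊔ T₂ ≤ P
  · have hr : (restrictHom (P.subtype.comp α.toMonoidHom) hTP).range = T₁ ⊔ T₂ := by
      ext y
      constructor
      · rintro ⟨x, rfl⟩
        exact (stronglyClosed_aut_iff hT hα).2 x.2
      · intro hy
        refine ⟨⟨(α.symm ⟨y, hTP hy⟩ : P), ?_⟩, ?_⟩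
        · refine (stronglyClosed_aut_iff hT hα).1 ?_
          rw [MulEquiv.apply_symm_apply]
          exact hy
        · simp
    obtain ⟨β, hβ, hβv⟩ := exists_iso (restrict_mem hiso hTP) hr
    exact (hG P _).2 ⟨hiso, β, hβ.mem_autGroup, (P ⊓ (T₁ ⊔ T₂)).subtype,
      subtype_mem inf_le_right, fun x hx => (hβv ⟨x, hx⟩).symm⟩
  obtain ⟨hPa, hPr⟩ := automized_receptive hS hF hPn
  have hcomm : ∀ b ∈ T₂, ∀ a ∈ T₁, b * a = a * b := fun b hb a ha => (hc a ha b hb).symm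
  by_cases hQ₁ : T₁ ⊓ ((P ⊓ (T₁ ⊔ T₂)) ⊔ T₂) ≤ P
  swap
  · obtain ⟨c, hcT, hcN, hcP, t, ht, hct⟩ := exists_proj_elt hS hPS hT hT₁ hT₂ hQ₁
    exact aut_mem_of_proj hS hPa hPr habove hT₁ hT₂ hc hcT hcN hcP ht hct α hα
  by_cases hQ₂ : T₂ ⊓ ((P ⊓ (T₁ ⊔ T₂)) ⊔ T₁) ≤ P
  swap
  · obtain ⟨c, hcT, hcN, hcP, t, ht, hct⟩ := exists_proj_elt hS hPS hT hT₂ hT₁ hQ₂
    exact aut_mem_of_proj hS hPa hPr habove hT₂ hT₁ hcomm hcT hcN hcP ht hct α hα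
  have hdec : ∀ x : ↥(P ⊓ (T₁ ⊔ T₂)), ∃ a ∈ P ⊓ T₁, ∃ b ∈ P ⊓ T₂, a * b = x := by
    intro x
    obtain ⟨a, ha, b, hb, e⟩ := exists_mul_eq hc x.2.2
    refine ⟨a, ⟨hQ₁ ⟨ha, ?_⟩, ha⟩, b, ⟨hQ₂ ⟨hb, ?_⟩, hb⟩, e⟩
    · rw [show a = (x : Ω) * b⁻¹ by rw [← e, mul_inv_cancel_right]]
      exact Subgroup.mul_mem_sup x.2 (Subgroup.inv_mem _ hb)
    · rw [show b = (x : Ω) * a⁻¹ by rw [← e, hc a ha b hb, mul_inv_cancel_right]]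
      exact Subgroup.mul_mem_sup x.2 (Subgroup.inv_mem _ ha)
  have hGmem : ∀ a ∈ F.autGroup P, ∀ φ₁ ∈ E₁.Hom (P ⊓ T₁), ∀ φ₂ ∈ E₂.Hom (P ⊓ T₂),
      (∀ y : ↥(P ⊓ T₁), φ₁ y = (a ⟨y, y.2.1⟩ : Ω)) →
      (∀ y : ↥(P ⊓ T₂), φ₂ y = (a ⟨y, y.2.1⟩ : Ω)) → IsIso G a := by
    intro a ha φ₁ hφ₁ φ₂ hφ₂ h1 h2
    refine (hG P _).2 ⟨(mem_autGroup_iff hPS).1 ha, 1, one_mem _,
      restrictHom (P.subtype.comp a.toMonoidHom) inf_le_left,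
      hD.mk_mem hZ₁ hZ₂ hφ₁ hφ₂ fun x => ?_, fun x hx => rfl⟩
    obtain ⟨u, hu, v, hv, e⟩ := hdec x
    refine ⟨⟨u, hu⟩, ⟨v, hv⟩, e, ?_⟩
    rw [h1, h2, restrictHom_apply, ← Subgroup.coe_mul, ← map_mul]
    exact congrArg (fun w : P => (a w : Ω)) (Subtype.ext e.symm)
  by_cases hT₁P : T₁ ≤ P
  swap
  · obtain ⟨c, hcT, hcN, hcP⟩ := exists_normalizing hS hT₁.1 hPS
      (hPS.trans (stronglyClosed_le_normalizer hT₁)) hT₁P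
    exact aut_mem_of_left hS hPa hPr habove hn₁.1.2.2 hT₂ hc (fun a ha hfix φ₁ hφ₁ h1 =>
      hGmem a ha φ₁ hφ₁ _ (subtype_mem inf_le_right) h1 fun y =>
        (congrArg Subtype.val (hfix ⟨y, y.2.1⟩ y.2.2)).symm) hcT hcN hcP α hα
  · have hT₂P : ¬ T₂ ≤ P := fun h => hTP (sup_le hT₁P h)
    obtain ⟨c, hcT, hcN, hcP⟩ := exists_normalizing hS hT₂.1 hPS
      (hPS.trans (stronglyClosed_le_normalizer hT₂)) hT₂P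
    exact aut_mem_of_left hS hPa hPr habove hn₂.1.2.2 hT₁ hcomm (fun a ha hfix φ₂ hφ₂ h2 =>
      hGmem a ha _ (subtype_mem inf_le_right) φ₂ hφ₂ (fun y =>
        (congrArg Subtype.val (hfix ⟨y, y.2.1⟩ y.2.2)).symm) h2) hcT hcN hcP α hα

/-- The central product of two commuting normal subsystems is normal. -/
theorem isNormalIn_product (hS : IsPGroup p S) (hn₁ : E₁.IsNormalIn F p)
    (hn₂ : E₂.IsNormalIn F p) (hc : ∀ a ∈ T₁, ∀ b ∈ T₂, a * b = b * a)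
    (hZ₁ : T₁ ⊓ T₂ ≤ E₁.center) (hZ₂ : T₁ ⊓ T₂ ≤ E₂.center) (hDs : D.IsSaturated p)
    (hD : ProdMaps E₁ E₂ D) : D.IsNormalIn F p := by
  have hF := hn₁.1.2.1
  have hT₁ := hn₁.1.2.2.2.1
  have hT₂ := hn₂.1.2.2.2.1
  have hT := FusionWeakEmb.stronglyClosed_sup hS hF hT₁ hT₂
  have hinv := autInvariant_product hn₁ hn₂ hZ₁ hZ₂ hD
  refine ⟨⟨hDs, hF, isSubsystemOf_product hS hn₁ hn₂ hc hZ₁ hZ₂ hD, hT, hinv,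
    frattini_product hS hn₁ hn₂ hc hZ₁ hZ₂ hD hT hinv⟩, fun α hα => ?_⟩
  have := finite_of_le hT₁.1
  have := finite_of_le hT₂.1
  obtain ⟨P₁, P₂, φ₁, hφ₁, φ₂, hφ₂, hex, hv⟩ := (hD _ _).1 ((mem_autGroup_iff le_rfl).1 hα)
  obtain ⟨ψ₁, hψ₁, h11, h12⟩ := exists_ext_center hφ₁
  obtain ⟨ψ₂, hψ₂, h21, h22⟩ := exists_ext_center hφ₂
  have key : ∀ x : ↥(T₁ ⊔ T₂), ∃ (a : ↥(P₁ ⊔ E₁.center)) (b : ↥(P₂ ⊔ E₂.center)),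
      (a : Ω) * b = x ∧ (α x : Ω) = ψ₁ a * ψ₂ b := fun x => by
    obtain ⟨a, b, e⟩ := hex x
    refine ⟨Subgroup.inclusion le_sup_left a, Subgroup.inclusion le_sup_left b, e, ?_⟩
    rw [h11, h21]
    exact hv x a b e
  have hval : ∀ (x : ↥(T₁ ⊔ T₂)) (a : ↥(P₁ ⊔ E₁.center)) (b : ↥(P₂ ⊔ E₂.center)),
      (a : Ω) * b = x → (α x : Ω) = ψ₁ a * ψ₂ b := fun x a b e => by
    obtain ⟨a', b', e', hv'⟩ := key x
    rw [hv']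
    exact decomp_unique hZ₁ hZ₂ hψ₁ hψ₂ (e'.trans e.symm)
  have l₁ : T₁ ≤ P₁ ⊔ E₁.center := fun x hx => by
    obtain ⟨a, b, e⟩ := hex ⟨x, Subgroup.mem_sup_left hx⟩
    have e' : (a : Ω) * b = x := e
    have hb : (b : Ω) ∈ T₁ := by
      rw [show (b : Ω) = (a : Ω)⁻¹ * x by rw [← e', inv_mul_cancel_left]]
      exact mul_mem (Subgroup.inv_mem _ (le_left hφ₁ a.2)) hx
    rw [← e']
    exact Subgroup.mul_mem_sup a.2 (hZ₁ ⟨hb, le_left hφ₂ b.2⟩)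
  have l₂ : T₂ ≤ P₂ ⊔ E₂.center := fun x hx => by
    obtain ⟨a, b, e⟩ := hex ⟨x, Subgroup.mem_sup_right hx⟩
    have e' : (a : Ω) * b = x := e
    have ha : (a : Ω) ∈ T₂ := by
      rw [show (a : Ω) = x * (b : Ω)⁻¹ by rw [← e', mul_inv_cancel_right]]
      exact mul_mem hx (Subgroup.inv_mem _ (le_left hφ₂ b.2))
    rw [← e', hc _ (le_left hφ₁ a.2) _ (le_left hφ₂ b.2)]
    exact Subgroup.mul_mem_sup b.2 (hZ₂ ⟨le_left hφ₁ a.2, ha⟩)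
  obtain ⟨α₁, hα₁, hα₁v⟩ := exists_iso (restrict_mem hψ₁ l₁)
    (eq_S_of_isConj ⟨_, restrict_mem hψ₁ l₁, rfl⟩)
  obtain ⟨α₂, hα₂, hα₂v⟩ := exists_iso (restrict_mem hψ₂ l₂)
    (eq_S_of_isConj ⟨_, restrict_mem hψ₂ l₂, rfl⟩)
  obtain ⟨b₁, hb₁, hb₁1, hb₁2⟩ := extendsTop' hS hn₁ hT₂ hT rfl hc hZ₁ hα₁.mem_autGroup
    le_sup_left
  obtain ⟨b₂, hb₂, hb₂1, hb₂2⟩ := extendsTop' hS hn₂ hT₁ hT (sup_comm T₁ T₂)
    (fun b hb a ha => (hc a ha b hb).symm) (inf_comm T₁ T₂ ▸ hZ₂) hα₂.mem_autGroup le_sup_right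
  have hb : b₁ * b₂ = α := by
    refine MulEquiv.ext fun x => Subtype.ext ?_
    refine eq_on_sup ((T₁ ⊔ T₂).subtype.comp (b₁ * b₂ : MulAut _).toMonoidHom)
      ((T₁ ⊔ T₂).subtype.comp α.toMonoidHom) le_sup_left le_sup_right
      (fun y hy => ?_) (fun y hy => ?_) x.2 x.2
    · show (b₁ (b₂ ⟨y, _⟩) : Ω) = (α ⟨y, _⟩ : Ω)
      rw [hb₂2 _ hy, show (⟨y, Subgroup.mem_sup_left hy⟩ : ↥(T₁ ⊔ T₂)) =
        Subgroup.inclusion le_sup_left ⟨y, hy⟩ from rfl, hb₁1, hα₁v, restrictHom_apply,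
        hval _ ⟨y, l₁ hy⟩ 1 (mul_one y), map_one, mul_one]
    · show (b₁ (b₂ ⟨y, _⟩) : Ω) = (α ⟨y, _⟩ : Ω)
      have hy' : ((b₂ ⟨y, Subgroup.mem_sup_right hy⟩ : ↥(T₁ ⊔ T₂)) : Ω) ∈ T₂ :=
        hb₂1 ⟨y, hy⟩ ▸ (α₂ _).2
      rw [hb₁2 _ hy', show (⟨y, Subgroup.mem_sup_right hy⟩ : ↥(T₁ ⊔ T₂)) =
        Subgroup.inclusion le_sup_right ⟨y, hy⟩ from rfl, hb₂1, hα₂v, restrictHom_apply,
        hval _ 1 ⟨y, l₂ hy⟩ (one_mul y), map_one, one_mul]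
  exact hb ▸ hb₁.mul hT.1 hb₂

end main

end CfsgLib.FusionLayer.Product
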