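/-
A strongly closed subgroup of the centre of the underlying group is central in the residual of
index prime to `p`.
-/
import Cfsg.Agent.Fusion.NormalizerSaturated
import Cfsg.Agent.Fusion.NormalSubgroup
import Cfsg.Agent.Fusion.CentralizerSubsystem
import Cfsg.Agent.Fusion.PPrimeResidual

set_option autoImplicit false

namespace CfsgLib.FusionLayer.Product

open Cfsg Cfsg.FusionSystem CfsgLib.Fusion

variable {Ω : Type*} [Group Ω] {T Z : Subgroup Ω} {E : FusionSystem T} {p : ℕ}

/-- The centralizer system, over any name of the centralizer. -/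
theorem exists_centralizer_system [Finite T] [Fact p.Prime] (hT : IsPGroup p T)
    (hE : E.IsSaturated p) (hZ : E.IsFullyCentralized Z) {N : Subgroup Ω}
    (hN : N = centralizerIn T Z) :
    ∃ C : FusionSystem N, C.IsSaturated p ∧ ∀ P, C.Hom P = E.centralizerHom Z P := by
  subst hN
  obtain ⟨C, hC⟩ := exists_isCentralizerSystem E hZ.1
  exact ⟨C, isSaturated_centralizerSystem hT hE hZ hC, hC⟩

/-- Every element of `p`-power order of an automizer fixes, in some extension, a strongly closed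
subgroup centralized by the underlying group. -/
theorem mem_centralizerHom_of_pPower [Finite T] [Fact p.Prime] (hT : IsPGroup p T)
    (hE : E.IsSaturated p) (hZ : E.StronglyClosed Z) (hc : centralizerIn T Z = T)
    {P : Subgroup Ω} (hP : P ≤ T) {α : MulAut P} (hα : α ∈ E.autGroup P) {k : ℕ}
    (hk : α ^ p ^ k = 1) : P.subtype.comp α.toMonoidHom ∈ E.centralizerHom Z P := by
  have hI := (mem_autGroup_iff hP).1 hα
  refine ⟨hI, hc.symm ▸ hP, fun x => hc.symm ▸ apply_mem hI x, ?_⟩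
  obtain ⟨Q, hcQ, hQ⟩ := exists_fullyNormalized (F := E) hP
  obtain ⟨e, he⟩ := isConj_iff.1 hcQ
  obtain ⟨hQa, hQr⟩ := automized_receptive hT hE hQ
  obtain ⟨γ, hγ, hγc⟩ := exists_conj_autInducedBy hQa
    (X := Subgroup.zpowers (MulAut.congr e α))
    (Subgroup.zpowers_le.2 (congr_mem_autGroup he hα))
    (isPGroup_zpowers_of_pow_eq_one (k := k) (by rw [← map_pow, hk, map_one]))
  have he' : IsIso E (e.trans γ) := he.trans ((mem_autGroup_iff hQ.1).1 hγ)
  have hc' : MulAut.congr (e.trans γ) α ∈ autInducedBy T Q := by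
    rw [congr_trans, congr_self_eq]
    exact hγc _ (Subgroup.mem_zpowers _)
  generalize e.trans γ = f at he' hc'
  obtain ⟨t, ht, htN, htv⟩ := mem_autInducedBy_iff.1 hc'
  have hZC : Z ≤ centralizerIn T P := fun z hz => mem_centralizerIn.2 ⟨hZ.1 hz, fun x hx =>
    ((mem_centralizerIn.1 (hc.symm ▸ hP hx : x ∈ centralizerIn T Z)).2 z hz).symm⟩
  obtain ⟨ψ, hψ, hv⟩ := exists_extension (T := P ⊔ Z) hQr he'
    (sup_le (le_extender hP (E.le_of_mem he').2) (hZC.trans (centralizerIn_le_extender _)))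
  obtain ⟨ι, hι, hιv⟩ := E.inv_mem hψ
  have hψP : ∀ x : P, ψ (Subgroup.inclusion le_sup_left x) = (f x : Ω) := fun x => hv x _
  have hψT : ∀ w, ψ w ∈ T := apply_mem hψ
  have hψZ : ∀ z : Z, t * ψ (Subgroup.inclusion le_sup_right z) * t⁻¹ =
      ψ (Subgroup.inclusion le_sup_right z) := fun z => by
    have h1 : ψ (Subgroup.inclusion le_sup_right z) ∈ Z :=
      stronglyClosed_apply hZ hψ (x := Subgroup.inclusion le_sup_right z) z.2
    have h2 := (mem_centralizerIn.1 (hc.symm ▸ ht : t ∈ centralizerIn T Z)).2 _ h1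
    rw [← h2, mul_inv_cancel_right]
  let χ : ↥(P ⊔ Z) →* Ω := (MulAut.conj t).toMonoidHom.comp ψ
  have hχ : χ ∈ E.Hom (P ⊔ Z) :=
    mem_of_comp hψ (E.conj_mem le_rfl ht) hψT fun _ => rfl
  have hle : ∀ w, χ w ∈ ψ.range := fun w => by
    refine forall_mem_sup χ le_sup_left le_sup_right (fun x hx => ?_) (fun z hz => ?_) w.2 w.2
    · refine ⟨Subgroup.inclusion le_sup_left (α ⟨x, hx⟩), ?_⟩
      show _ = t * ψ (Subgroup.inclusion le_sup_left ⟨x, hx⟩) * t⁻¹
      rw [hψP, hψP, ← htv, congr_apply]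
    · exact ⟨Subgroup.inclusion le_sup_right ⟨z, hz⟩, (hψZ ⟨z, hz⟩).symm⟩
  refine ⟨_, E.comp_mem hχ hι hle, fun x => ?_, fun z => ?_⟩
  · refine Eq.trans (congrArg ι (Subtype.ext ?_ :
      _ = (⟨ψ (Subgroup.inclusion le_sup_left (α x)), _, rfl⟩ : ψ.range))) (hιv _)
    show t * ψ (Subgroup.inclusion le_sup_left x) * t⁻¹ =
      ψ (Subgroup.inclusion le_sup_left (α x))
    rw [hψP, hψP, ← htv, congr_apply]
  · exact Eq.trans (congrArg ι (Subtype.ext (hψZ z) :
      _ = (⟨ψ (Subgroup.inclusion le_sup_right z), _, rfl⟩ : ψ.range))) (hιv _)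

/-- A strongly closed subgroup centralized by the underlying group is central in the residual of
index prime to `p`. -/
theorem le_center_residual [Finite T] [Fact p.Prime] (hT : IsPGroup p T)
    (hE : E.IsSaturated p) (hZ : E.StronglyClosed Z) (hc : centralizerIn T Z = T)
    {R : FusionSystem T} (hR : E.IsPPrimeResidual p R) : Z ≤ R.center := by
  have hZf : E.IsFullyCentralized Z :=
    ⟨hZ.1, fun Q _ => by rw [hc]; exact Subgroup.card_le_of_le (centralizerIn_le T Q)⟩
  obtain ⟨C, hC, hCH⟩ := exists_centralizer_system hT hE hZf hc.symm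
  have hsub : C.IsSubsystemOf E := fun P φ h => by
    rw [hCH] at h
    exact h.1
  have hidx : C.HasPrimeToPIndexIn E p := by
    refine ⟨hsub, fun P hP => ?_⟩
    rw [MonoidHom.map_closure, Subgroup.closure_le]
    rintro _ ⟨a, ⟨k, hk⟩, rfl⟩
    refine (mem_autGroup_iff hP).2 ?_
    show _ ∈ C.Hom P
    rw [hCH]
    refine mem_centralizerHom_of_pPower hT hE hZ hc hP a.2 (k := k) ?_
    rw [Subgroup.coe_subtype, ← SubmonoidClass.coe_pow, ← hk, pow_orderOf_eq_one]
    rfl
  refine le_sSup (isCentral_of_forall hT hR.1 hZ.1 fun x hx y hy => ?_)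
  obtain ⟨φ, hφ, rfl⟩ := hy
  have h := hR.2.2 C hC hidx _ hφ
  rw [hCH] at h
  obtain ⟨-, -, -, ψ, -, h1, h2⟩ := h
  rw [← h1 ⟨x, Subgroup.mem_zpowers x⟩]
  exact h2 ⟨x, hx⟩

end CfsgLib.FusionLayer.Product
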